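import Groth.Agent.L05.Glue.Torsion
import Mathlib.RingTheory.Flat.EquationalCriterion
import Mathlib.RingTheory.Flat.Localization
import Mathlib.RingTheory.Flat.Stability
import Mathlib.RingTheory.Flat.Tensor
import Mathlib.Algebra.Module.FinitePresentation

/-!
# Flatness and projectivity along glueing pairs
-/

universe u

open TensorProduct

namespace Groth.L05.Glue

open EtGlue

/-- For a presentation `K → P → M` with `P` flat: if tensoring the presentation with the cokernel
of an injective `v` stays injective, then `v ⊗ M` is injective. -/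
theorem rTensor_injective_of_presentation {R : Type*} [CommRing R] {K P M A B : Type*}
    [AddCommGroup K] [Module R K] [AddCommGroup P] [Module R P] [AddCommGroup M] [Module R M]
    [AddCommGroup A] [Module R A] [AddCommGroup B] [Module R B] [Module.Flat R P]
    (i : K →ₗ[R] P) (π : P →ₗ[R] M) (hex : Function.Exact i π) (hπ : Function.Surjective π)
    (v : A →ₗ[R] B) (hv : Function.Injective v)
    (hV : Function.Injective (i.lTensor (B ⧸ LinearMap.range v))) :
    Function.Injective (v.rTensor M) := by
  rw [injective_iff_map_eq_zero]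
  intro z hz
  obtain ⟨a, rfl⟩ := LinearMap.lTensor_surjective A hπ z
  have h1 : π.lTensor B (v.rTensor P a) = 0 := by
    rw [← hz, ← LinearMap.comp_apply, ← LinearMap.comp_apply, LinearMap.lTensor_comp_rTensor,
      LinearMap.rTensor_comp_lTensor]
  obtain ⟨k, hk⟩ := (lTensor_exact B hex hπ _).mp h1
  have h2 : (LinearMap.range v).mkQ.rTensor K k = 0 := by
    apply hV
    rw [map_zero, ← LinearMap.comp_apply, LinearMap.lTensor_comp_rTensor,
      ← LinearMap.rTensor_comp_lTensor, LinearMap.comp_apply, hk, ← LinearMap.rTensor_comp_apply,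
      LinearMap.range_le_ker_iff.mp (Submodule.ker_mkQ _).ge, LinearMap.rTensor_zero,
      LinearMap.zero_apply]
  obtain ⟨k', rfl⟩ := (rTensor_exact K (LinearMap.exact_map_mkQ_range v)
    (Submodule.mkQ_surjective _) _).mp h2
  have h3 : a = i.lTensor A k' := by
    apply Module.Flat.rTensor_preserves_injective_linearMap (M := P) v hv
    rw [← hk, ← LinearMap.comp_apply, LinearMap.lTensor_comp_rTensor,
      ← LinearMap.rTensor_comp_lTensor, LinearMap.comp_apply]
  rw [h3, ← LinearMap.lTensor_comp_apply, hex.linearMap_comp_eq_zero, LinearMap.lTensor_zero,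
    LinearMap.zero_apply]

/-- Every module has a presentation by a flat module. -/
theorem exists_flat_presentation (R : Type u) [CommRing R] (M : Type u) [AddCommGroup M] [Module R M] :
    ∃ (K P : Type u) (_ : AddCommGroup K) (_ : Module R K) (_ : AddCommGroup P) (_ : Module R P)
      (_ : Module.Flat R P) (i : K →ₗ[R] P) (π : P →ₗ[R] M),
      Function.Injective i ∧ Function.Exact i π ∧ Function.Surjective π :=
  ⟨↥(LinearMap.ker (Finsupp.linearCombination R (id : M → M))), M →₀ R, inferInstance,
    inferInstance, inferInstance, inferInstance, inferInstance,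
    (LinearMap.ker (Finsupp.linearCombination R (id : M → M))).subtype,
    Finsupp.linearCombination R (id : M → M), Submodule.injective_subtype _,
    LinearMap.exact_subtype_ker_map _, Finsupp.linearCombination_id_surjective R M⟩

/-- An injective map with flat cokernel is universally injective. -/
theorem lTensor_injective_of_flat_coker {S : Type u} [CommRing S] {K P M : Type u} [AddCommGroup K]
    [Module S K] [AddCommGroup P] [Module S P] [AddCommGroup M] [Module S M] [Module.Flat S M]
    (i : K →ₗ[S] P) (π : P →ₗ[S] M) (hi : Function.Injective i) (hex : Function.Exact i π)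
    (hπ : Function.Surjective π) (X : Type u) [AddCommGroup X] [Module S X] :
    Function.Injective (i.lTensor X) := by
  let e : (P ⧸ LinearMap.range i) ≃ₗ[S] M :=
    Submodule.quotEquivOfEq _ _ (LinearMap.exact_iff.mp hex).symm ≪≫ₗ π.quotKerEquivOfSurjective hπ
  haveI : Module.Flat S (P ⧸ LinearMap.range i) := Module.Flat.of_linearEquiv e
  obtain ⟨K', P', _, _, _, _, _, i', p', hi', hex', hp'⟩ := exists_flat_presentation S X
  have h := rTensor_injective_of_presentation i' p' hex' hp' i hi
    (Module.Flat.lTensor_preserves_injective_linearMap (M := P ⧸ LinearMap.range i) i' hi')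
  intro a b hab
  apply (TensorProduct.comm S X K).injective
  apply h
  have hc : ∀ w, i.rTensor X (TensorProduct.comm S X K w) = TensorProduct.comm S X P (i.lTensor X w) := by
    intro w
    induction w using TensorProduct.induction_on with
    | zero => simp
    | tmul a m => simp
    | add x y hx hy => simp only [map_add, hx, hy]
  rw [hc, hc, hab]

section BaseChange

variable {R : Type u} [CommRing R] (S : Type u) [CommRing S] [Algebra R S]
  {K P M : Type u} [AddCommGroup K] [Module R K] [AddCommGroup P] [Module R P]
  [AddCommGroup M] [Module R M] (i : K →ₗ[R] P) (π : P →ₗ[R] M)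
  (hex : Function.Exact i π) (hπ : Function.Surjective π)
  (hiS : Function.Injective (i.lTensor S)) [Module.Flat S (S ⊗[R] M)]

include hex hπ hiS

theorem lTensor_injective_of_module (X : Type u) [AddCommGroup X] [Module R X] [Module S X]
    [IsScalarTower R S X] : Function.Injective (i.lTensor X) := by
  have h : Function.Injective ((i.baseChange S).lTensor X) :=
    lTensor_injective_of_flat_coker (i.baseChange S) (π.baseChange S) hiS
      (by rw [LinearMap.baseChange_eq_ltensor, LinearMap.baseChange_eq_ltensor]
          exact lTensor_exact S hex hπ)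
      (by rw [LinearMap.baseChange_eq_ltensor]; exact LinearMap.lTensor_surjective S hπ) X
  let eK := TensorProduct.AlgebraTensorModule.cancelBaseChange R S S X K
  let eP := TensorProduct.AlgebraTensorModule.cancelBaseChange R S S X P
  have hc : ∀ w, i.lTensor X (eK w) = eP ((i.baseChange S).lTensor X w) := by
    intro w
    induction w using TensorProduct.induction_on with
    | zero => simp
    | tmul x y =>
      induction y using TensorProduct.induction_on with
      | zero => simp
      | tmul s k => simp [eK, eP, smul_tmul']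
      | add x y hx hy => simp only [TensorProduct.tmul_add, map_add, hx, hy]
    | add x y hx hy => simp only [map_add, hx, hy]
  intro a b hab
  obtain ⟨a, rfl⟩ := eK.surjective a
  obtain ⟨b, rfl⟩ := eK.surjective b
  rw [hc, hc] at hab
  rw [h (eP.injective hab)]

theorem flat_baseChange_ker [Module.Flat S (S ⊗[R] P)] : Module.Flat S (S ⊗[R] K) := by
  rw [Module.Flat.iff_rTensor_injective']
  intro I
  have h := lTensor_injective_of_flat_coker (i.baseChange S) (π.baseChange S) hiS
      (by rw [LinearMap.baseChange_eq_ltensor, LinearMap.baseChange_eq_ltensor]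
          exact lTensor_exact S hex hπ)
      (by rw [LinearMap.baseChange_eq_ltensor]; exact LinearMap.lTensor_surjective S hπ) ↥I
  intro a b hab
  apply h
  apply Module.Flat.rTensor_preserves_injective_linearMap (M := S ⊗[R] P) I.subtype
    (Submodule.injective_subtype I)
  rw [← LinearMap.comp_apply, ← LinearMap.comp_apply, LinearMap.rTensor_comp_lTensor,
    ← LinearMap.lTensor_comp_rTensor, LinearMap.comp_apply, LinearMap.comp_apply, hab]

end BaseChange

section Pair

variable {R R' : Type u} [CommRing R] [CommRing R'] [Algebra R R'] {f : R}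
  (h : IsGlueingPair R R' f)

theorem lTensor_away_injective (f : R) {A B : Type u} [AddCommGroup A] [Module R A] [AddCommGroup B]
    [Module R B] (i : A →ₗ[R] B) (hi : Function.Injective i) :
    Function.Injective (i.lTensor (Localization.Away f)) :=
  haveI : Module.Flat R (Localization.Away f) := IsLocalization.flat _ (Submonoid.powers f)
  Module.Flat.lTensor_preserves_injective_linearMap i hi

include h

variable {K P M : Type u} [AddCommGroup K] [Module R K] [AddCommGroup P] [Module R P]
  [AddCommGroup M] [Module R M] [Module.Flat R P] (i : K →ₗ[R] P) (π : P →ₗ[R] M)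
  (hi : Function.Injective i) (hex : Function.Exact i π) (hπ : Function.Surjective π)
  [Module.Flat (Localization.Away f) (Localization.Away f ⊗[R] M)]

include hi hex hπ

theorem lTensor_pair_injective : Function.Injective (i.lTensor R') := by
  let L := Localization.Away (algebraMap R R' f)
  letI : Algebra (Localization.Away f) L := (Localization.awayMap (algebraMap R R') f).toAlgebra
  haveI : IsScalarTower R (Localization.Away f) L := IsScalarTower.of_algebraMap_eq fun r => by
    rw [RingHom.algebraMap_toAlgebra, awayMap_algebraMap, ← IsScalarTower.algebraMap_apply]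
  let a : R' →ₗ[R] L := (IsScalarTower.toAlgHom R R' L).toLinearMap
  let b : Localization.Away f →ₗ[R] L :=
    (IsScalarTower.toAlgHom R (Localization.Away f) L).toLinearMap
  let u₀ : R →ₗ[R] R' × Localization.Away f :=
    (Algebra.linearMap R R').prod (Algebra.linearMap R (Localization.Away f))
  let v : R' × Localization.Away f →ₗ[R] L := a.coprod (-b)
  have huv : Function.Exact u₀ v := by
    intro p
    constructor
    · intro hp
      obtain ⟨r, h1, h2⟩ := h.2.2.1 p.1 p.2 (sub_eq_zero.mp (by
        rw [sub_eq_add_neg]; exact hp))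
      exact ⟨r, Prod.ext h1 h2⟩
    · rintro ⟨r, rfl⟩
      show algebraMap R' L (algebraMap R R' r) +
        -(Localization.awayMap (algebraMap R R') f (algebraMap R _ r)) = 0
      rw [awayMap_algebraMap, add_neg_cancel]
  have hv : Function.Surjective v := fun z => by
    obtain ⟨c, d, hcd⟩ := h.2.2.2 z
    exact ⟨(c, d), by rw [← hcd, sub_eq_add_neg]; rfl⟩
  have hu₀ : Function.Injective u₀ := h.2.1
  rw [injective_iff_map_eq_zero]
  intro z hz
  have hz0 : a.rTensor K z = 0 := by
    apply lTensor_injective_of_module (Localization.Away f) i π hex hπ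
      (lTensor_away_injective f i hi) L
    rw [map_zero, ← LinearMap.comp_apply, LinearMap.lTensor_comp_rTensor,
      ← LinearMap.rTensor_comp_lTensor, LinearMap.comp_apply, hz, map_zero]
  obtain ⟨w, hw⟩ := (rTensor_exact K huv hv
    ((LinearMap.inl R R' (Localization.Away f)).rTensor K z)).mp
    (by rw [← LinearMap.rTensor_comp_apply, show v.comp (LinearMap.inl R R' _) = a from
      LinearMap.coprod_inl _ _, hz0])
  have h1 : i.lTensor R w = 0 := by
    apply Module.Flat.rTensor_preserves_injective_linearMap (M := P) u₀ hu₀
    rw [map_zero, ← LinearMap.comp_apply, LinearMap.rTensor_comp_lTensor,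
      ← LinearMap.lTensor_comp_rTensor, LinearMap.comp_apply, hw, ← LinearMap.comp_apply,
      LinearMap.lTensor_comp_rTensor, ← LinearMap.rTensor_comp_lTensor, LinearMap.comp_apply, hz,
      map_zero]
  have h2 : w = 0 := Module.Flat.lTensor_preserves_injective_linearMap (M := R) i hi
    (h1.trans (map_zero _).symm)
  have h3 := congrArg ((LinearMap.fst R R' (Localization.Away f)).rTensor K) hw
  rwa [h2, map_zero, map_zero, ← LinearMap.rTensor_comp_apply, LinearMap.fst_comp_inl,
    LinearMap.rTensor_id_apply, eq_comm] at h3

variable [Module.Flat R' (R' ⊗[R] M)]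

theorem lTensor_injective_of_isTors (T : Type u) [AddCommGroup T] [Module R T]
    (hT : ∀ t : T, IsTors f t) : Function.Injective (i.lTensor T) := by
  have hbij := bijective_tmul_of_isTors (R' := R') (M := T) h.1 hT
  let e : T ≃ₗ[R] R' ⊗[R] T := LinearEquiv.ofBijective (TensorProduct.mk R R' T 1) hbij
  have h1 := lTensor_injective_of_module R' i π hex hπ (lTensor_pair_injective h i π hi hex hπ)
    (R' ⊗[R] T)
  intro x y hxy
  apply (e.rTensor K).injective
  apply h1
  show i.lTensor _ (e.toLinearMap.rTensor K x) = i.lTensor _ (e.toLinearMap.rTensor K y)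
  rw [← LinearMap.comp_apply, ← LinearMap.comp_apply, LinearMap.lTensor_comp_rTensor,
    ← LinearMap.rTensor_comp_lTensor, LinearMap.comp_apply, LinearMap.comp_apply, hxy]

end Pair

section Main

variable {R R' : Type u} [CommRing R] [CommRing R'] [Algebra R R'] {f : R}

/-- The `f`-power torsion submodule. -/
def torsSub (f : R) (C : Type u) [AddCommGroup C] [Module R C] : Submodule R C where
  carrier := {c | IsTors f c}
  zero_mem' := ⟨0, smul_zero _⟩
  add_mem' {a b} := fun ⟨n, hn⟩ ⟨m, hm⟩ => ⟨n + m, by
    rw [smul_add, pow_add, mul_comm, mul_smul, hn, smul_zero, zero_add, mul_comm, mul_smul, hm,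
      smul_zero]⟩
  smul_mem' r a := fun ⟨n, hn⟩ => ⟨n, by rw [smul_comm, hn, smul_zero]⟩

theorem lTensor_injective_of_torsFree (h : IsGlueingPair R R' f)
    {K P M K₂ P₂ : Type u} [AddCommGroup K] [Module R K] [AddCommGroup P] [Module R P]
    [AddCommGroup M] [Module R M] [Module.Flat R P]
    [AddCommGroup K₂] [Module R K₂] [AddCommGroup P₂] [Module R P₂] [Module.Flat R P₂]
    (i : K →ₗ[R] P) (π : P →ₗ[R] M) (hi : Function.Injective i) (hex : Function.Exact i π)
    (hπ : Function.Surjective π) [Module.Flat (Localization.Away f) (Localization.Away f ⊗[R] M)]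
    (i₂ : K₂ →ₗ[R] P₂) (π₂ : P₂ →ₗ[R] K) (hi₂ : Function.Injective i₂)
    (hex₂ : Function.Exact i₂ π₂) (hπ₂ : Function.Surjective π₂)
    [Module.Flat (Localization.Away f) (Localization.Away f ⊗[R] K)] [Module.Flat R' (R' ⊗[R] K)]
    (C : Type u) [AddCommGroup C] [Module R C] (hC : ∀ c : C, IsTors f c → c = 0) :
    Function.Injective (i.lTensor C) := by
  rw [injective_iff_map_eq_zero]
  intro z hz
  let l : C →ₗ[R] Localization.Away f ⊗[R] C := TensorProduct.mk R (Localization.Away f) C 1
  have h1 : l.rTensor K z = 0 := by
    apply lTensor_injective_of_module (Localization.Away f) i π hex hπ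
      (lTensor_away_injective f i hi) (Localization.Away f ⊗[R] C)
    rw [map_zero, ← LinearMap.comp_apply, LinearMap.lTensor_comp_rTensor,
      ← LinearMap.rTensor_comp_lTensor, LinearMap.comp_apply, hz, map_zero]
  haveI : IsLocalizedModule (Submonoid.powers f) (l.rTensor K) :=
    IsLocalizedModule.rTensor (R := R) (A := R) (N := K) (Submonoid.powers f) l
  obtain ⟨⟨_, n, rfl⟩, hn⟩ := (IsLocalizedModule.eq_zero_iff (Submonoid.powers f)
    (l.rTensor K)).mp h1
  simp only [Submonoid.smul_def] at hn
  let v : C →ₗ[R] C := f ^ n • (LinearMap.id : C →ₗ[R] C)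
  have hv : Function.Injective v := by
    rw [injective_iff_map_eq_zero]
    exact fun c hc => hC c ⟨n, hc⟩
  have hq : ∀ q : C ⧸ LinearMap.range v, IsTors f q := fun q => by
    obtain ⟨c, rfl⟩ := Submodule.Quotient.mk_surjective _ q
    refine ⟨n, ?_⟩
    rw [← Submodule.Quotient.mk_smul, Submodule.Quotient.mk_eq_zero]
    exact ⟨c, rfl⟩
  have hvi : Function.Injective (v.rTensor K) :=
    rTensor_injective_of_presentation i₂ π₂ hex₂ hπ₂ v hv
      (lTensor_injective_of_isTors h i₂ π₂ hi₂ hex₂ hπ₂ _ hq)
  apply hvi
  rw [map_zero]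
  show (f ^ n • (LinearMap.id : C →ₗ[R] C)).rTensor K z = 0
  rw [LinearMap.rTensor_smul, LinearMap.rTensor_id]
  exact hn

theorem flat_of_presentations (h : IsGlueingPair R R' f)
    {K P M K₂ P₂ : Type u} [AddCommGroup K] [Module R K] [AddCommGroup P] [Module R P]
    [AddCommGroup M] [Module R M] [Module.Flat R P]
    [AddCommGroup K₂] [Module R K₂] [AddCommGroup P₂] [Module R P₂] [Module.Flat R P₂]
    (i : K →ₗ[R] P) (π : P →ₗ[R] M) (hi : Function.Injective i) (hex : Function.Exact i π)
    (hπ : Function.Surjective π) [Module.Flat (Localization.Away f) (Localization.Away f ⊗[R] M)]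
    [Module.Flat R' (R' ⊗[R] M)]
    (i₂ : K₂ →ₗ[R] P₂) (π₂ : P₂ →ₗ[R] K) (hi₂ : Function.Injective i₂)
    (hex₂ : Function.Exact i₂ π₂) (hπ₂ : Function.Surjective π₂)
    [Module.Flat (Localization.Away f) (Localization.Away f ⊗[R] K)] [Module.Flat R' (R' ⊗[R] K)] :
    Module.Flat R M := by
  have hfree : ∀ (C : Type u) [AddCommGroup C] [Module R C], (∀ c : C, IsTors f c → c = 0) →
      Function.Injective (i.lTensor C) := fun C _ _ hC =>
    lTensor_injective_of_torsFree h i π hi hex hπ i₂ π₂ hi₂ hex₂ hπ₂ C hC
  have hall : ∀ (C : Type u) [AddCommGroup C] [Module R C], Function.Injective (i.lTensor C) := by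
    intro C _ _
    rw [injective_iff_map_eq_zero]
    intro z hz
    let T := torsSub f C
    have h1 : T.mkQ.rTensor _ z = 0 := by
      apply hfree (C ⧸ T) (fun c ⟨n, hn⟩ => ?_)
      · rw [map_zero, ← LinearMap.comp_apply, LinearMap.lTensor_comp_rTensor,
          ← LinearMap.rTensor_comp_lTensor, LinearMap.comp_apply, hz, map_zero]
      · obtain ⟨c, rfl⟩ := Submodule.Quotient.mk_surjective _ c
        rw [← Submodule.Quotient.mk_smul, Submodule.Quotient.mk_eq_zero] at hn
        obtain ⟨m, hm⟩ := hn
        rw [Submodule.Quotient.mk_eq_zero]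
        exact ⟨m + n, by rw [pow_add, mul_smul, hm]⟩
    obtain ⟨w, rfl⟩ := (rTensor_exact _ (LinearMap.exact_subtype_mkQ T)
      (Submodule.mkQ_surjective _) _).mp h1
    have h2 : i.lTensor T w = 0 := by
      apply Module.Flat.rTensor_preserves_injective_linearMap (M := P) T.subtype
        (Submodule.injective_subtype _)
      rw [map_zero, ← LinearMap.comp_apply, LinearMap.rTensor_comp_lTensor,
        ← LinearMap.lTensor_comp_rTensor, LinearMap.comp_apply, hz]
    rw [lTensor_injective_of_isTors (R' := R') (f := f) h i π hi hex hπ T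
      (fun t => let ⟨n, hn⟩ := t.2; ⟨n, Subtype.ext hn⟩) (h2.trans (map_zero _).symm), map_zero]
  rw [Module.Flat.iff_rTensor_injective']
  intro I
  exact rTensor_injective_of_presentation i π hex hπ I.subtype (Submodule.injective_subtype I)
    (hall _)

theorem flat_of_glueingPair (h : IsGlueingPair R R' f) (M : Type u) [AddCommGroup M] [Module R M]
    [Module.Flat R' (R' ⊗[R] M)]
    [Module.Flat (Localization.Away f) (Localization.Away f ⊗[R] M)] : Module.Flat R M := by
  obtain ⟨K, P, _, _, _, _, _, i, π, hi, hex, hπ⟩ := exists_flat_presentation R M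
  obtain ⟨K₂, P₂, _, _, _, _, _, i₂, π₂, hi₂, hex₂, hπ₂⟩ := exists_flat_presentation R K
  haveI : Module.Flat R' (R' ⊗[R] K) :=
    flat_baseChange_ker R' i π hex hπ (lTensor_pair_injective h i π hi hex hπ)
  haveI : Module.Flat (Localization.Away f) (Localization.Away f ⊗[R] K) :=
    flat_baseChange_ker (Localization.Away f) i π hex hπ (lTensor_away_injective f i hi)
  exact flat_of_presentations h i π hi hex hπ i₂ π₂ hi₂ hex₂ hπ₂

theorem flat_iff (h : IsGlueingPair R R' f) (M : Type u) [AddCommGroup M] [Module R M] :
    Module.Flat R M ↔ Module.Flat R' (R' ⊗[R] M) ∧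
      Module.Flat (Localization.Away f) (LocalizedModule (Submonoid.powers f) M) := by
  let e := LocalizedModule.equivTensorProduct (Submonoid.powers f) M
  constructor
  · intro _
    exact ⟨inferInstance,
      Module.Flat.of_linearEquiv (M := Localization.Away f ⊗[R] M) e⟩
  · rintro ⟨_, hf⟩
    haveI : Module.Flat (Localization.Away f) (Localization.Away f ⊗[R] M) :=
      Module.Flat.of_linearEquiv e.symm
    exact flat_of_glueingPair h M

/-! ### Finiteness -/

theorem exists_fg_lTensor_surjective (S : Type u) [CommRing S] [Algebra R S] (M : Type u)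
    [AddCommGroup M] [Module R M] [Module.Finite S (S ⊗[R] M)] :
    ∃ N : Submodule R M, N.FG ∧ Function.Surjective (N.subtype.lTensor S) := by
  classical
  obtain ⟨s, hs⟩ := (inferInstance : Module.Finite S (S ⊗[R] M)).fg_top
  have h1 : ∀ x : S ⊗[R] M, ∃ N : Submodule R M, N.FG ∧
      x ∈ LinearMap.range (N.subtype.baseChange S) := by
    intro x
    induction x using TensorProduct.induction_on with
    | zero => exact ⟨⊥, Submodule.fg_bot, zero_mem _⟩
    | tmul a m =>
      exact ⟨Submodule.span R {m}, Submodule.fg_span_singleton m,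
        a ⊗ₜ[R] ⟨m, Submodule.mem_span_singleton_self m⟩, rfl⟩
    | add x y hx hy =>
      obtain ⟨N₁, h₁, hx⟩ := hx
      obtain ⟨N₂, h₂, hy⟩ := hy
      exact ⟨N₁ ⊔ N₂, h₁.sup h₂, add_mem (range_baseChange_mono le_sup_left hx)
        (range_baseChange_mono le_sup_right hy)⟩
  choose N hN hmem using h1
  refine ⟨s.sup N, Submodule.fg_finset_sup s N fun x _ => hN x, fun y => ?_⟩
  have hy : y ∈ Submodule.span S (s : Set (S ⊗[R] M)) := hs ▸ Submodule.mem_top
  have h2 : y ∈ LinearMap.range ((s.sup N).subtype.baseChange S) :=
    (Submodule.span_le.mpr fun x hx => range_baseChange_mono (Finset.le_sup hx) (hmem x)) hy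
  exact h2
where
  range_baseChange_mono {S : Type u} [CommRing S] [Algebra R S] {M : Type u} [AddCommGroup M]
      [Module R M] {N₁ N₂ : Submodule R M} (h : N₁ ≤ N₂) :
      LinearMap.range (N₁.subtype.baseChange S) ≤ LinearMap.range (N₂.subtype.baseChange S) := by
    rw [show N₁.subtype = N₂.subtype.comp (Submodule.inclusion h) from rfl, LinearMap.baseChange_comp]
    exact LinearMap.range_comp_le_range _ _

theorem finite_of_glueingPair (h : QuotPowBijective R R' f) (M : Type u) [AddCommGroup M]
    [Module R M] [Module.Finite R' (R' ⊗[R] M)]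
    [Module.Finite (Localization.Away f) (Localization.Away f ⊗[R] M)] : Module.Finite R M := by
  obtain ⟨N₁, hN₁, hs₁⟩ := exists_fg_lTensor_surjective (R := R) R' M
  obtain ⟨N₂, hN₂, hs₂⟩ := exists_fg_lTensor_surjective (R := R) (Localization.Away f) M
  refine ⟨?_⟩
  rw [← eq_top_of_baseChange h (N₁ ⊔ N₂) ?_ fun m => ?_]
  · exact hN₁.sup hN₂
  · intro y
    obtain ⟨z, rfl⟩ := hs₁ y
    exact ⟨(Submodule.inclusion le_sup_left).lTensor R' z, by
      rw [← LinearMap.lTensor_comp_apply]; rfl⟩
  · obtain ⟨z, hz⟩ := hs₂ ((1 : Localization.Away f) ⊗ₜ[R] m)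
    have h3 := congrArg (N₂.mkQ.lTensor (Localization.Away f)) hz
    rw [← LinearMap.lTensor_comp_apply, LinearMap.range_le_ker_iff.mp (le_of_eq
        (by rw [Submodule.range_subtype, Submodule.ker_mkQ])), LinearMap.lTensor_zero,
      LinearMap.zero_apply, LinearMap.lTensor_tmul] at h3
    obtain ⟨⟨_, n, rfl⟩, hn⟩ := (IsLocalizedModule.eq_zero_iff (Submonoid.powers f)
      (TensorProduct.mk R (Localization.Away f) _ 1)).mp h3.symm
    refine ⟨n, Submodule.mem_sup_right ?_⟩
    rwa [Submonoid.smul_def, Submodule.mkQ_apply, ← Submodule.Quotient.mk_smul,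
      Submodule.Quotient.mk_eq_zero] at hn

theorem finite_baseChange_ker (S : Type u) [CommRing S] [Algebra R S] {K P M : Type u}
    [AddCommGroup K] [Module R K] [AddCommGroup P] [Module R P]
    [AddCommGroup M] [Module R M] (i : K →ₗ[R] P) (π : P →ₗ[R] M)
    (hex : Function.Exact i π) (hπ : Function.Surjective π) (hi : Function.Injective (i.lTensor S))
    [Module.Finite R P] [Module.Finite S (S ⊗[R] M)] [Module.Projective S (S ⊗[R] M)] :
    Module.Finite S (S ⊗[R] K) := by
  haveI : Module.FinitePresentation S (S ⊗[R] M) := Module.finitePresentation_of_projective S _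
  have hπS : Function.Surjective (π.baseChange S) := by
    rw [LinearMap.baseChange_eq_ltensor]; exact LinearMap.lTensor_surjective S hπ
  haveI : Module.Finite S (LinearMap.ker (π.baseChange S)) :=
    .of_fg (Module.FinitePresentation.fg_ker _ hπS)
  have hker : LinearMap.range (i.baseChange S) = LinearMap.ker (π.baseChange S) :=
    (LinearMap.exact_iff.mp (by
      rw [LinearMap.baseChange_eq_ltensor, LinearMap.baseChange_eq_ltensor]
      exact lTensor_exact S hex hπ)).symm
  exact Module.Finite.equiv
    ((LinearEquiv.ofInjective (i.baseChange S) hi).trans (LinearEquiv.ofEq _ _ hker)).symm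

theorem finite_projective_iff (h : IsGlueingPair R R' f) (M : Type u) [AddCommGroup M]
    [Module R M] : (Module.Finite R M ∧ Module.Projective R M) ↔
      (Module.Finite R' (R' ⊗[R] M) ∧ Module.Projective R' (R' ⊗[R] M)) ∧
      (Module.Finite (Localization.Away f) (LocalizedModule (Submonoid.powers f) M) ∧
        Module.Projective (Localization.Away f) (LocalizedModule (Submonoid.powers f) M)) := by
  let e : LocalizedModule (Submonoid.powers f) M ≃ₗ[Localization.Away f]
      Localization.Away f ⊗[R] M := LocalizedModule.equivTensorProduct (Submonoid.powers f) M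
  constructor
  · rintro ⟨_, _⟩
    exact ⟨⟨inferInstance, inferInstance⟩, Module.Finite.equiv e.symm, Module.Projective.of_equiv e.symm⟩
  · rintro ⟨⟨_, _⟩, h₁, h₂⟩
    haveI : Module.Finite (Localization.Away f) (Localization.Away f ⊗[R] M) := Module.Finite.equiv e
    haveI : Module.Projective (Localization.Away f) (Localization.Away f ⊗[R] M) :=
      Module.Projective.of_equiv e
    haveI hfin := finite_of_glueingPair h.1 M
    haveI := flat_of_glueingPair h M
    obtain ⟨n, π, hπ⟩ := Module.Finite.exists_fin' R M
    let i := (LinearMap.ker π).subtype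
    have hex : Function.Exact i π := LinearMap.exact_subtype_ker_map π
    have hi : Function.Injective i := Submodule.injective_subtype _
    haveI := finite_baseChange_ker R' i π hex hπ (lTensor_pair_injective h i π hi hex hπ)
    haveI := finite_baseChange_ker (Localization.Away f) i π hex hπ (lTensor_away_injective f i hi)
    haveI : Module.FinitePresentation R M := Module.finitePresentation_of_surjective π hπ
      (Module.Finite.iff_fg.mp (finite_of_glueingPair h.1 ↥(LinearMap.ker π)))
    exact ⟨hfin, Module.Flat.projective_of_finitePresentation⟩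

end Main

end Groth.L05.Glue
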