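import Groth.Agent.L05.Glue.Flat
import Mathlib.Algebra.Module.Torsion.Basic
import Mathlib.RingTheory.Flat.TorsionFree

/-!
# Flatness along a non-zero-divisor
-/

set_option autoImplicit false

open TensorProduct

universe u v w

namespace Groth.L05.FlatTorsion

open Groth.L05.Glue

variable {A : Type u} [CommRing A]

theorem exists_presentation (M : Type v) [AddCommGroup M] [Module A M] :
    ∃ (K : Type (max u v)) (_ : AddCommGroup K) (_ : Module A K) (i : K →ₗ[A] (M →₀ A))
      (p : (M →₀ A) →ₗ[A] M), Function.Injective i ∧ Function.Exact i p ∧ Function.Surjective p :=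
  ⟨↥(LinearMap.ker (Finsupp.linearCombination A (id : M → M))), inferInstance, inferInstance,
    (LinearMap.ker (Finsupp.linearCombination A (id : M → M))).subtype,
    Finsupp.linearCombination A (id : M → M), Submodule.injective_subtype _,
    LinearMap.exact_subtype_ker_map _, Finsupp.linearCombination_id_surjective A M⟩

variable {K : Type v} {P : Type w} {M : Type*} [AddCommGroup K] [Module A K] [AddCommGroup P] [Module A P]
  [AddCommGroup M] [Module A M] (i : K →ₗ[A] P) (p : P →ₗ[A] M)

/-- An injective map with flat cokernel is universally injective. -/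
theorem lTensor_injective_of_flat_coker [Module.Flat A M] (hi : Function.Injective i)
    (hex : Function.Exact i p) (hp : Function.Surjective p) (X : Type*) [AddCommGroup X] [Module A X] :
    Function.Injective (i.lTensor X) := by
  let e : (P ⧸ LinearMap.range i) ≃ₗ[A] M :=
    Submodule.quotEquivOfEq _ _ (LinearMap.exact_iff.mp hex).symm ≪≫ₗ p.quotKerEquivOfSurjective hp
  haveI : Module.Flat A (P ⧸ LinearMap.range i) := Module.Flat.of_linearEquiv e
  obtain ⟨K', _, _, i', p', hi', hex', hp'⟩ := exists_presentation (A := A) X
  have h := rTensor_injective_of_presentation i' p' hex' hp' i hi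
    (Module.Flat.lTensor_preserves_injective_linearMap (M := P ⧸ LinearMap.range i) i' hi')
  intro a b hab
  apply (TensorProduct.comm A X K).injective
  apply h
  have hc : ∀ w, i.rTensor X (TensorProduct.comm A X K w) = TensorProduct.comm A X P (i.lTensor X w) := by
    intro w
    induction w using TensorProduct.induction_on with
    | zero => simp
    | tmul a m => simp
    | add x y hx hy => simp only [map_add, hx, hy]
  rw [hc, hc, hab]

section BaseChange

variable (S : Type*) [CommRing S] [Algebra A S] (hex : Function.Exact i p) (hp : Function.Surjective p)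
  (hiS : Function.Injective (i.lTensor S)) [Module.Flat S (S ⊗[A] M)]

include hex hp hiS

theorem lTensor_injective_of_module (X : Type*) [AddCommGroup X] [Module A X] [Module S X]
    [IsScalarTower A S X] : Function.Injective (i.lTensor X) := by
  have h : Function.Injective ((i.baseChange S).lTensor X) :=
    lTensor_injective_of_flat_coker (i.baseChange S) (p.baseChange S) hiS
      (by rw [LinearMap.baseChange_eq_ltensor, LinearMap.baseChange_eq_ltensor]
          exact lTensor_exact S hex hp)
      (by rw [LinearMap.baseChange_eq_ltensor]; exact LinearMap.lTensor_surjective S hp) X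
  let eK := TensorProduct.AlgebraTensorModule.cancelBaseChange A S S X K
  let eP := TensorProduct.AlgebraTensorModule.cancelBaseChange A S S X P
  have hc : ∀ w, i.lTensor X (eK w) = eP ((i.baseChange S).lTensor X w) := by
    intro w
    induction w using TensorProduct.induction_on with
    | zero => simp
    | tmul x y =>
      induction y using TensorProduct.induction_on with
      | zero => simp
      | tmul s k => simp [eK, eP, smul_tmul']
      | add x y hx hy => simp only [TensorProduct.tmul_add, map_add, hx, hy]
    | add x y hx hy => simp only [map_add, hx, hy]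
  intro a b hab
  obtain ⟨a, rfl⟩ := eK.surjective a
  obtain ⟨b, rfl⟩ := eK.surjective b
  rw [hc, hc] at hab
  rw [h (eP.injective hab)]

theorem flat_baseChange_ker [Module.Flat S (S ⊗[A] P)] : Module.Flat S (S ⊗[A] K) := by
  rw [Module.Flat.iff_rTensor_injective']
  intro I
  have h := lTensor_injective_of_flat_coker (i.baseChange S) (p.baseChange S) hiS
      (by rw [LinearMap.baseChange_eq_ltensor, LinearMap.baseChange_eq_ltensor]
          exact lTensor_exact S hex hp)
      (by rw [LinearMap.baseChange_eq_ltensor]; exact LinearMap.lTensor_surjective S hp) ↥I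
  intro a b hab
  apply h
  apply Module.Flat.rTensor_preserves_injective_linearMap (M := S ⊗[A] P) I.subtype
    (Submodule.injective_subtype I)
  rw [← LinearMap.comp_apply, ← LinearMap.comp_apply, LinearMap.rTensor_comp_lTensor,
    ← LinearMap.lTensor_comp_rTensor, LinearMap.comp_apply, LinearMap.comp_apply, hab]

end BaseChange

/-- For a torsion free cokernel, the reduction of an injection stays injective. -/
theorem lTensor_quotient_injective {a : A} (hi : Function.Injective i) (hex : Function.Exact i p)
    (htf : ∀ x : M, a • x = 0 → x = 0) : Function.Injective (i.lTensor (A ⧸ Ideal.span {a})) := by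
  refine (injective_iff_map_eq_zero _).mpr fun z hz => ?_
  obtain ⟨k, rfl⟩ : ∃ k, (1 : A ⧸ Ideal.span {a}) ⊗ₜ[A] k = z := by
    clear hz
    induction z with
    | zero => exact ⟨0, tmul_zero _ _⟩
    | tmul q k =>
      obtain ⟨r, rfl⟩ := Ideal.Quotient.mk_surjective q
      exact ⟨r • k, by rw [← smul_tmul, Algebra.smul_def, mul_one]; rfl⟩
    | add x y hx hy =>
      obtain ⟨k, rfl⟩ := hx
      obtain ⟨k', rfl⟩ := hy
      exact ⟨k + k', tmul_add _ _ _⟩
  rw [LinearMap.lTensor_tmul] at hz
  have h1 := congrArg (TensorProduct.quotTensorEquivQuotSMul P (Ideal.span {a})) hz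
  rw [map_zero, show (1 : A ⧸ Ideal.span {a}) = Ideal.Quotient.mk _ 1 from rfl,
    TensorProduct.quotTensorEquivQuotSMul_mk_tmul, one_smul, Submodule.Quotient.mk_eq_zero,
    Submodule.ideal_span_singleton_smul] at h1
  obtain ⟨y, -, hy⟩ := h1
  have hpy : p y = 0 := htf _ <| by
    rw [← map_smul, show a • y = i k from hy]
    exact hex.apply_apply_eq_zero k
  obtain ⟨k', hk'⟩ := (hex y).mp hpy
  have hk : k = a • k' := hi (by rw [map_smul, hk']; exact hy.symm)
  rw [hk, ← smul_tmul, Algebra.smul_def, mul_one, show algebraMap A (A ⧸ Ideal.span {a}) a = 0 from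
    Ideal.Quotient.eq_zero_iff_mem.mpr (Ideal.mem_span_singleton_self a), zero_tmul]

variable {a : A}

/-- Modules killed by a power of `a`. -/
theorem lTensor_injective_of_killed [Module.Flat A P] (hi : Function.Injective i)
    (hex : Function.Exact i p) (hp : Function.Surjective p) (htf : ∀ x : M, a • x = 0 → x = 0)
    [Module.Flat (A ⧸ Ideal.span {a}) ((A ⧸ Ideal.span {a}) ⊗[A] M)] :
    ∀ (n : ℕ) (C : Type u) [AddCommGroup C] [Module A C], (∀ c : C, a ^ n • c = 0) →
      Function.Injective (i.lTensor C) := by
  intro n
  induction n with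
  | zero =>
    intro C _ _ hC
    haveI : Subsingleton C := ⟨fun x y => by rw [← one_smul A x, ← one_smul A y, ← pow_zero a, hC, hC]⟩
    intro x y _
    exact Subsingleton.elim x y
  | succ n ih =>
    intro C _ _ hC
    let T : Submodule A C := Ideal.span {a} • ⊤
    have hT : ∀ c : T, a ^ n • c = 0 := fun c => Subtype.ext <| by
      have hc := c.2
      simp only [T, Submodule.ideal_span_singleton_smul] at hc
      obtain ⟨d, -, hd⟩ := hc
      show a ^ n • (c : C) = 0
      rw [show (c : C) = a • d from hd.symm, smul_smul, ← pow_succ, hC]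
    have htors : Module.IsTorsionBySet A (C ⧸ T) (Ideal.span {a} : Ideal A) := by
      rintro q ⟨r, hr⟩
      obtain ⟨c, rfl⟩ := Submodule.Quotient.mk_surjective _ q
      exact (Submodule.Quotient.mk_eq_zero _).mpr (Submodule.smul_mem_smul hr Submodule.mem_top)
    letI : Module (A ⧸ Ideal.span {a}) (C ⧸ T) := Module.IsTorsionBySet.module htors
    haveI : IsScalarTower A (A ⧸ Ideal.span {a}) (C ⧸ T) := Module.IsTorsionBySet.isScalarTower htors
    refine (injective_iff_map_eq_zero _).mpr fun z hz => ?_
    have h1 : T.mkQ.rTensor K z = 0 := by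
      apply lTensor_injective_of_module i p (A ⧸ Ideal.span {a}) hex hp
        (lTensor_quotient_injective i p hi hex htf) (C ⧸ T)
      rw [map_zero, ← LinearMap.comp_apply, LinearMap.lTensor_comp_rTensor,
        ← LinearMap.rTensor_comp_lTensor, LinearMap.comp_apply, hz, map_zero]
    obtain ⟨w, rfl⟩ := (rTensor_exact K (LinearMap.exact_subtype_mkQ T) (Submodule.mkQ_surjective _) _).mp h1
    have h2 : i.lTensor T w = 0 := by
      apply Module.Flat.rTensor_preserves_injective_linearMap (M := P) T.subtype (Submodule.injective_subtype _)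
      rw [map_zero, ← LinearMap.comp_apply, LinearMap.rTensor_comp_lTensor,
        ← LinearMap.lTensor_comp_rTensor, LinearMap.comp_apply, hz]
    rw [ih T hT (h2.trans (map_zero _).symm), map_zero]

theorem flat_of_torsionFree_of_quotient_of_away (ha : a ∈ nonZeroDivisors A) (M : Type v) [AddCommGroup M]
    [Module A M] (htf : ∀ x : M, a • x = 0 → x = 0)
    [Module.Flat (A ⧸ Ideal.span {a}) ((A ⧸ Ideal.span {a}) ⊗[A] M)]
    [Module.Flat (Localization.Away a) ((Localization.Away a) ⊗[A] M)] : Module.Flat A M := by
  obtain ⟨K, _, _, i, p, hi, hex, hp⟩ := exists_presentation (A := A) M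
  haveI : Module.Flat A (Localization.Away a) := IsLocalization.flat _ (Submonoid.powers a)
  have hKtf : ∀ x : K, a • x = 0 → x = 0 := fun x hx => hi (Finsupp.ext fun m => by
    have := congrArg (fun z : K => i z m) hx
    simp only [map_smul, Finsupp.smul_apply, smul_eq_mul, map_zero, Finsupp.zero_apply] at this
    rw [map_zero, Finsupp.zero_apply]
    exact (mem_nonZeroDivisors_iff_right.mp ha) _ (by rw [mul_comm]; exact this))
  obtain ⟨K₂, _, _, i₂, p₂, hi₂, hex₂, hp₂⟩ := exists_presentation (A := A) K
  haveI : Module.Flat (A ⧸ Ideal.span {a}) ((A ⧸ Ideal.span {a}) ⊗[A] K) :=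
    flat_baseChange_ker i p (A ⧸ Ideal.span {a}) hex hp (lTensor_quotient_injective _ _ hi hex htf)
  have hall : ∀ (C : Type u) [AddCommGroup C] [Module A C], Function.Injective (i.lTensor C) := by
    intro C _ _
    refine (injective_iff_map_eq_zero _).mpr fun z hz => ?_
    let l : C →ₗ[A] Localization.Away a ⊗[A] C := TensorProduct.mk A (Localization.Away a) C 1
    have h1 : l.rTensor K z = 0 := by
      apply lTensor_injective_of_module i p (Localization.Away a) hex hp
        (Module.Flat.lTensor_preserves_injective_linearMap _ hi) (Localization.Away a ⊗[A] C)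
      rw [map_zero, ← LinearMap.comp_apply, LinearMap.lTensor_comp_rTensor,
        ← LinearMap.rTensor_comp_lTensor, LinearMap.comp_apply, hz, map_zero]
    haveI : IsLocalizedModule (Submonoid.powers a) (l.rTensor K) :=
      IsLocalizedModule.rTensor (R := A) (A := A) (N := K) (Submonoid.powers a) l
    obtain ⟨⟨_, n, rfl⟩, hn⟩ := (IsLocalizedModule.eq_zero_iff (Submonoid.powers a) (l.rTensor K)).mp h1
    simp only [Submonoid.smul_def] at hn
    let q : C →ₗ[A] C := a ^ n • (LinearMap.id : C →ₗ[A] C)
    have hι : Function.Injective ((LinearMap.range q).subtype.rTensor K) :=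
      rTensor_injective_of_presentation i₂ p₂ hex₂ hp₂ _ (Submodule.injective_subtype _)
        (lTensor_injective_of_killed i₂ p₂ hi₂ hex₂ hp₂ hKtf n _ fun c => by
          obtain ⟨c, rfl⟩ := Submodule.Quotient.mk_surjective _ c
          rw [← Submodule.Quotient.mk_smul, Submodule.Quotient.mk_eq_zero, Submodule.range_subtype]
          exact ⟨c, rfl⟩)
    have h2 : q.rangeRestrict.rTensor K z = 0 := hι <| by
      rw [map_zero, ← LinearMap.rTensor_comp_apply]
      show (a ^ n • (LinearMap.id : C →ₗ[A] C)).rTensor K z = 0
      rw [LinearMap.rTensor_smul, LinearMap.rTensor_id]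
      exact hn
    obtain ⟨w, rfl⟩ := (rTensor_exact K (LinearMap.exact_subtype_ker_map q.rangeRestrict)
      q.surjective_rangeRestrict _).mp h2
    have h3 : i.lTensor (LinearMap.ker q.rangeRestrict) w = 0 := by
      apply Module.Flat.rTensor_preserves_injective_linearMap (M := M →₀ A)
        (LinearMap.ker q.rangeRestrict).subtype (Submodule.injective_subtype _)
      rw [map_zero, ← LinearMap.comp_apply, LinearMap.rTensor_comp_lTensor,
        ← LinearMap.lTensor_comp_rTensor, LinearMap.comp_apply, hz]
    have hkill : ∀ c : LinearMap.ker q.rangeRestrict, a ^ n • c = 0 := fun c =>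
      Subtype.ext (congrArg Subtype.val (LinearMap.mem_ker.mp c.2) : (q (c : C) : C) = 0)
    rw [lTensor_injective_of_killed i p hi hex hp htf n _ hkill (h3.trans (map_zero _).symm), map_zero]
  rw [Module.Flat.iff_rTensor_injective']
  intro I
  exact rTensor_injective_of_presentation i p hex hp I.subtype (Submodule.injective_subtype I) (hall _)

theorem flat_iff (ha : a ∈ nonZeroDivisors A) (M : Type v) [AddCommGroup M] [Module A M] :
    Module.Flat A M ↔ (∀ (x : M) (n : ℕ), a ^ n • x = 0 → x = 0) ∧
      Module.Flat (A ⧸ Ideal.span {a}) ((A ⧸ Ideal.span {a}) ⊗[A] M) ∧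
      Module.Flat (Localization.Away a) ((Localization.Away a) ⊗[A] M) := by
  refine ⟨fun _ => ⟨fun x n hx => ?_, inferInstance, inferInstance⟩, fun ⟨h, h1, h2⟩ => ?_⟩
  · apply Module.Flat.isSMulRegular_of_nonZeroDivisors (M := M) (pow_mem ha n)
    show a ^ n • x = a ^ n • 0
    rw [hx, smul_zero]
  · exact flat_of_torsionFree_of_quotient_of_away ha M fun x hx => h x 1 (by rwa [pow_one])

end Groth.L05.FlatTorsion
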