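import Groth.Agent.L05.Glue.Flat
import Mathlib.RingTheory.RingHom.Etale
import Mathlib.RingTheory.RingHom.Finite
import Mathlib.RingTheory.RingHom.FiniteType
import Mathlib.RingTheory.RingHom.FinitePresentation
import Mathlib.RingTheory.RingHom.Flat
import Mathlib.RingTheory.RingHom.Surjective
import Mathlib.RingTheory.Kaehler.TensorProduct
import Mathlib.LinearAlgebra.TensorProduct.RightExactness

/-!
# Detecting properties of algebras along glueing pairs
-/

universe u

open TensorProduct

namespace Groth.L05.Glue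

open EtGlue

section Core

variable {A A' : Type u} [CommRing A] [CommRing A'] [Algebra A A'] {g : A}

theorem forall_pow_smul_mem (g : A) {M : Type u} [AddCommGroup M] [Module A M] (N : Submodule A M)
    (h : Function.Surjective (N.subtype.lTensor (Localization.Away g))) (m : M) :
    ∃ n : ℕ, g ^ n • m ∈ N := by
  obtain ⟨z, hz⟩ := h ((1 : Localization.Away g) ⊗ₜ[A] m)
  have h3 := congrArg (N.mkQ.lTensor (Localization.Away g)) hz
  rw [← LinearMap.lTensor_comp_apply, LinearMap.range_le_ker_iff.mp (le_of_eq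
      (by rw [Submodule.range_subtype, Submodule.ker_mkQ])), LinearMap.lTensor_zero,
    LinearMap.zero_apply, LinearMap.lTensor_tmul] at h3
  obtain ⟨⟨_, n, rfl⟩, hn⟩ := (IsLocalizedModule.eq_zero_iff (Submonoid.powers g)
    (TensorProduct.mk A (Localization.Away g) _ 1)).mp h3.symm
  exact ⟨n, by rwa [Submonoid.smul_def, Submodule.mkQ_apply, ← Submodule.Quotient.mk_smul,
    Submodule.Quotient.mk_eq_zero] at hn⟩

theorem eq_top_of_both (hq : QuotPowBijective A A' g) {M : Type u} [AddCommGroup M] [Module A M]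
    (N : Submodule A M) (h₁ : Function.Surjective (N.subtype.lTensor A'))
    (h₂ : Function.Surjective (N.subtype.lTensor (Localization.Away g))) : N = ⊤ :=
  eq_top_of_baseChange hq N h₁ (forall_pow_smul_mem g N h₂)

theorem lTensor_subtype_surjective_mono (S : Type u) [CommRing S] [Algebra A S] {M : Type u}
    [AddCommGroup M] [Module A M] {N₁ N₂ : Submodule A M} (h : N₁ ≤ N₂)
    (h₁ : Function.Surjective (N₁.subtype.lTensor S)) :
    Function.Surjective (N₂.subtype.lTensor S) := fun y => by
  obtain ⟨z, rfl⟩ := h₁ y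
  exact ⟨(Submodule.inclusion h).lTensor S z, by rw [← LinearMap.lTensor_comp_apply]; rfl⟩

variable (B : Type u) [CommRing B] [Algebra A B]

theorem surjective_of_both (hq : QuotPowBijective A A' g)
    (h₁ : Function.Surjective (algebraMap A' (A' ⊗[A] B)))
    (h₂ : Function.Surjective (algebraMap (Localization.Away g) (Localization.Away g ⊗[A] B))) :
    Function.Surjective (algebraMap A B) := by
  have key : ∀ (S : Type u) [CommRing S] [Algebra A S],
      Function.Surjective (algebraMap S (S ⊗[A] B)) →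
      Function.Surjective ((LinearMap.range (Algebra.linearMap A B)).subtype.lTensor S) := by
    intro S _ _ h y
    obtain ⟨s, rfl⟩ := h y
    exact ⟨s ⊗ₜ[A] ⟨1, 1, by simp⟩, rfl⟩
  intro b
  have h := eq_top_of_both hq (LinearMap.range (Algebra.linearMap A B)) (key _ h₁) (key _ h₂)
  obtain ⟨a, ha⟩ : b ∈ LinearMap.range (Algebra.linearMap A B) := h ▸ Submodule.mem_top
  exact ⟨a, ha⟩

theorem finite_of_both (hq : QuotPowBijective A A' g)
    (h₁ : (algebraMap A' (A' ⊗[A] B)).Finite)
    (h₂ : (algebraMap (Localization.Away g) (Localization.Away g ⊗[A] B)).Finite) :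
    (algebraMap A B).Finite := by
  rw [RingHom.finite_algebraMap] at *
  haveI := h₁; haveI := h₂
  exact finite_of_glueingPair hq B

theorem exists_fg_subalgebra (S : Type u) [CommRing S] [Algebra A S]
    [Algebra.FiniteType S (S ⊗[A] B)] :
    ∃ T : Subalgebra A B, T.FG ∧ Function.Surjective (T.toSubmodule.subtype.lTensor S) := by
  classical
  obtain ⟨s, hs⟩ := (inferInstance : Algebra.FiniteType S (S ⊗[A] B)).out
  let F : Subalgebra A B → Subalgebra S (S ⊗[A] B) := fun T =>
    (Algebra.TensorProduct.map (AlgHom.id S S) T.val).range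
  have hF : ∀ {T₁ T₂ : Subalgebra A B}, T₁ ≤ T₂ → F T₁ ≤ F T₂ := by
    rintro T₁ T₂ h _ ⟨z, rfl⟩
    refine ⟨Algebra.TensorProduct.map (AlgHom.id S S) (Subalgebra.inclusion h) z, ?_⟩
    induction z using TensorProduct.induction_on with
    | zero => simp
    | tmul a m => simp
    | add x y hx hy => simp only [map_add, hx, hy]
  have h1 : ∀ x : S ⊗[A] B, ∃ T : Subalgebra A B, T.FG ∧ x ∈ F T := by
    intro x
    induction x using TensorProduct.induction_on with
    | zero => exact ⟨⊥, Subalgebra.fg_bot, zero_mem _⟩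
    | tmul a m =>
      exact ⟨Algebra.adjoin A {m}, ⟨{m}, by simp⟩,
        a ⊗ₜ[A] ⟨m, Algebra.subset_adjoin rfl⟩, rfl⟩
    | add x y hx hy =>
      obtain ⟨T₁, h₁, hx⟩ := hx
      obtain ⟨T₂, h₂, hy⟩ := hy
      exact ⟨T₁ ⊔ T₂, h₁.sup h₂, add_mem (hF le_sup_left hx) (hF le_sup_right hy)⟩
  choose T hT hmem using h1
  refine ⟨s.sup T, Finset.sup_induction Subalgebra.fg_bot (fun _ h _ h' => h.sup h') fun x _ => hT x,
    fun y => ?_⟩
  obtain ⟨z, hz⟩ : y ∈ F (s.sup T) :=
    (Algebra.adjoin_le fun x hx => hF (Finset.le_sup hx) (hmem x) : Algebra.adjoin S (s : Set _) ≤ F (s.sup T))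
      (hs ▸ Algebra.mem_top)
  exact ⟨z, hz⟩

theorem finiteType_of_both (hq : QuotPowBijective A A' g)
    (h₁ : (algebraMap A' (A' ⊗[A] B)).FiniteType)
    (h₂ : (algebraMap (Localization.Away g) (Localization.Away g ⊗[A] B)).FiniteType) :
    (algebraMap A B).FiniteType := by
  rw [RingHom.finiteType_algebraMap] at *
  haveI := h₁; haveI := h₂
  obtain ⟨T₁, hT₁, hs₁⟩ := exists_fg_subalgebra (A := A) B A'
  obtain ⟨T₂, hT₂, hs₂⟩ := exists_fg_subalgebra (A := A) B (Localization.Away g)
  have h := eq_top_of_both hq (T₁ ⊔ T₂).toSubmodule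
    (lTensor_subtype_surjective_mono A' (fun x hx => (le_sup_left : T₁ ≤ T₁ ⊔ T₂) hx) hs₁)
    (lTensor_subtype_surjective_mono _ (fun x hx => (le_sup_right : T₂ ≤ T₁ ⊔ T₂) hx) hs₂)
  refine ⟨?_⟩
  rw [show (⊤ : Subalgebra A B) = T₁ ⊔ T₂ from
    Subalgebra.toSubmodule_injective (by rw [h, Algebra.top_toSubmodule])]
  exact hT₁.sup hT₂

theorem flat_of_both (h : IsGlueingPair A A' g)
    (h₁ : (algebraMap A' (A' ⊗[A] B)).Flat)
    (h₂ : (algebraMap (Localization.Away g) (Localization.Away g ⊗[A] B)).Flat) :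
    (algebraMap A B).Flat := by
  rw [RingHom.flat_algebraMap_iff] at *
  haveI := h₁; haveI := h₂
  exact flat_of_glueingPair h B

/-- For a presentation of a flat algebra, a finitely generated subideal of the kernel may be chosen
with the same base change. -/
theorem exists_fg_subideal {P : Type u} [CommRing P] [Algebra A P] (π : P →ₐ[A] B)
    (hπ : Function.Surjective π) [Algebra.FinitePresentation A P] [Module.Flat A B]
    (S : Type u) [CommRing S] [Algebra A S] [Algebra.FinitePresentation S (S ⊗[A] B)] :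
    ∃ J : Ideal P, J.FG ∧ J ≤ RingHom.ker π ∧
      Function.Surjective ((Submodule.comap ((RingHom.ker π).restrictScalars A).subtype
        (J.restrictScalars A)).subtype.lTensor S) := by
  classical
  let πS : S ⊗[A] P →ₐ[S] S ⊗[A] B := Algebra.TensorProduct.map (AlgHom.id S S) π
  have hπS : Function.Surjective πS := LinearMap.lTensor_surjective S (g := π.toLinearMap) hπ
  have hkerfg : (RingHom.ker πS.toRingHom).FG := Algebra.FinitePresentation.ker_fG_of_surjective πS hπS
  let incl : P →ₐ[A] S ⊗[A] P := Algebra.TensorProduct.includeRight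
  have hker : RingHom.ker πS.toRingHom = (RingHom.ker π).map incl :=
    Algebra.TensorProduct.lTensor_ker (A := S) π hπ
  rw [hker, Ideal.map] at hkerfg
  obtain ⟨t, ht, hts⟩ := (Submodule.fg_span_iff_fg_span_finset_subset _).mp hkerfg
  choose p hp hpx using fun x : t => ht x.2
  refine ⟨Ideal.span (Set.range p), Submodule.fg_span (Set.finite_range p),
    Ideal.span_le.mpr (Set.range_subset_iff.mpr hp), ?_⟩
  set I := (RingHom.ker π).restrictScalars A with hI
  set N := Submodule.comap I.subtype ((Ideal.span (Set.range p)).restrictScalars A) with hN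
  intro y
  have hJmap : (RingHom.ker π).map incl ≤ (Ideal.span (Set.range p)).map incl := by
    rw [Ideal.map, ← Ideal.submodule_span_eq, hts, Submodule.span_le]
    intro x hx
    show x ∈ (Ideal.span (Set.range p)).map incl
    have h := Ideal.mem_map_of_mem incl
      (Ideal.subset_span (s := Set.range p) ⟨⟨x, hx⟩, rfl⟩)
    rwa [hpx] at h
  have hinj : Function.Injective (I.subtype.lTensor S) :=
    lTensor_injective_of_flat_coker I.subtype π.toLinearMap (Submodule.injective_subtype I)
      (LinearMap.exact_subtype_ker_map π.toLinearMap) hπ S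
  have h1 : I.subtype.lTensor S y ∈
      ((RingHom.ker π).map incl).restrictScalars A := by
    rw [Ideal.map_includeRight_eq]; exact ⟨y, rfl⟩
  have h2 : I.subtype.lTensor S y ∈
      ((Ideal.span (Set.range p)).map incl).restrictScalars A := hJmap h1
  rw [Ideal.map_includeRight_eq] at h2
  obtain ⟨z, hz⟩ := h2
  have hle : (Ideal.span (Set.range p)).restrictScalars A ≤ I :=
    Ideal.span_le.mpr (Set.range_subset_iff.mpr hp)
  let c : ↥((Ideal.span (Set.range p)).restrictScalars A) →ₗ[A] ↥N :=
    { toFun := fun x => ⟨⟨x.1, hle x.2⟩, x.2⟩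
      map_add' := fun _ _ => rfl
      map_smul' := fun _ _ => rfl }
  refine ⟨c.lTensor S z, hinj ?_⟩
  rw [← LinearMap.lTensor_comp_apply, ← LinearMap.lTensor_comp_apply, ← hz]
  rfl

theorem flat_finitePresentation_of_both (h : IsGlueingPair A A' g)
    (h₁ : (algebraMap A' (A' ⊗[A] B)).Flat ∧ (algebraMap A' (A' ⊗[A] B)).FinitePresentation)
    (h₂ : (algebraMap (Localization.Away g) (Localization.Away g ⊗[A] B)).Flat ∧
      (algebraMap (Localization.Away g) (Localization.Away g ⊗[A] B)).FinitePresentation) :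
    (algebraMap A B).Flat ∧ (algebraMap A B).FinitePresentation := by
  have hflat := flat_of_both B h h₁.1 h₂.1
  refine ⟨hflat, ?_⟩
  have hft := finiteType_of_both B h.1 (RingHom.FiniteType.of_finitePresentation h₁.2)
    (RingHom.FiniteType.of_finitePresentation h₂.2)
  rw [RingHom.finiteType_algebraMap] at hft
  rw [RingHom.flat_algebraMap_iff] at hflat
  rw [RingHom.finitePresentation_algebraMap]
  haveI : Algebra.FinitePresentation A' (A' ⊗[A] B) := RingHom.finitePresentation_algebraMap.mp h₁.2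
  haveI : Algebra.FinitePresentation (Localization.Away g) (Localization.Away g ⊗[A] B) :=
    RingHom.finitePresentation_algebraMap.mp h₂.2
  obtain ⟨n, π, hπ⟩ := Algebra.FiniteType.iff_quotient_mvPolynomial''.mp hft
  obtain ⟨J₁, hJ₁, hle₁, hs₁⟩ := exists_fg_subideal B π hπ A'
  obtain ⟨J₂, hJ₂, hle₂, hs₂⟩ := exists_fg_subideal B π hπ (Localization.Away g)
  have h3 := eq_top_of_both h.1 (Submodule.comap ((RingHom.ker π).restrictScalars A).subtype
      ((J₁ ⊔ J₂).restrictScalars A))
    (lTensor_subtype_surjective_mono A' (fun x hx => (le_sup_left : J₁ ≤ J₁ ⊔ J₂) hx) hs₁)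
    (lTensor_subtype_surjective_mono _ (fun x hx => (le_sup_right : J₂ ≤ J₁ ⊔ J₂) hx) hs₂)
  have h4 : RingHom.ker π = J₁ ⊔ J₂ := le_antisymm (fun x hx => by
      have h5 : (⟨x, hx⟩ : ↥((RingHom.ker π).restrictScalars A)) ∈
          (⊤ : Submodule A ↥((RingHom.ker π).restrictScalars A)) := Submodule.mem_top
      rw [← h3] at h5
      exact h5) (sup_le hle₁ hle₂)
  exact Algebra.FinitePresentation.of_surjective hπ (show (RingHom.ker π).FG from h4 ▸ Submodule.FG.sup hJ₁ hJ₂)

theorem etale_of_both (h : IsGlueingPair A A' g)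
    (h₁ : (algebraMap A' (A' ⊗[A] B)).Etale)
    (h₂ : (algebraMap (Localization.Away g) (Localization.Away g ⊗[A] B)).Etale) :
    (algebraMap A B).Etale := by
  rw [RingHom.Etale.iff_flat_and_formallyUnramified] at *
  obtain ⟨hf, hfp⟩ := flat_finitePresentation_of_both B h ⟨h₁.1, h₁.2.2⟩ ⟨h₂.1, h₂.2.2⟩
  refine ⟨hf, ?_, hfp⟩
  rw [RingHom.formallyUnramified_algebraMap]
  haveI : Algebra.FormallyUnramified A' (A' ⊗[A] B) :=
    RingHom.formallyUnramified_algebraMap.mp h₁.2.1
  haveI : Algebra.FormallyUnramified (Localization.Away g) (Localization.Away g ⊗[A] B) :=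
    RingHom.formallyUnramified_algebraMap.mp h₂.2.1
  letI := Algebra.TensorProduct.rightAlgebra (R := A) (A := A') (B := B)
  letI := Algebra.TensorProduct.rightAlgebra (R := A) (A := Localization.Away g) (B := B)
  haveI : Subsingleton (A' ⊗[A] Ω[B⁄A]) :=
    (KaehlerDifferential.tensorKaehlerEquivBase A A' B (A' ⊗[A] B)).toEquiv.subsingleton
  haveI : Subsingleton (Localization.Away g ⊗[A] Ω[B⁄A]) :=
    (KaehlerDifferential.tensorKaehlerEquivBase A (Localization.Away g) B
      (Localization.Away g ⊗[A] B)).toEquiv.subsingleton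
  have h0 : (⊥ : Submodule A Ω[B⁄A]) = ⊤ :=
    eq_top_of_both h.1 ⊥ (fun y => ⟨0, Subsingleton.elim _ _⟩) (fun y => ⟨0, Subsingleton.elim _ _⟩)
  exact ⟨Submodule.subsingleton_iff A |>.mp (subsingleton_of_bot_eq_top h0)⟩

end Core

/-! ### Transfer to pushouts -/

section Transfer

variable {A A' B B' : Type u} [CommRing A] [CommRing A'] [CommRing B] [CommRing B'] [Algebra A A']
  [Algebra A B] [Algebra A B'] [Algebra A' B'] [Algebra B B'] [IsScalarTower A A' B']
  [IsScalarTower A B B'] [Algebra.IsPushout A A' B B']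

theorem iff_tensor {Q : ∀ {R S : Type u} [CommRing R] [CommRing S], (R →+* S) → Prop}
    (hQ : RingHom.RespectsIso @Q) :
    Q (algebraMap A' B') ↔ Q (algebraMap A' (A' ⊗[A] B)) := by
  let e := Algebra.IsPushout.equiv A A' B B'
  constructor
  · intro h
    have := hQ.1 _ e.symm.toRingEquiv h
    convert this
    ext x
    exact (e.symm.commutes x).symm
  · intro h
    have := hQ.1 _ e.toRingEquiv h
    convert this
    ext x
    exact (e.commutes x).symm

end Transfer

section Pair

variable {R R' : Type u} [CommRing R] [CommRing R'] [Algebra R R'] {f : R}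

/-- A glueable algebra over a glueing pair gives a glueing pair. -/
theorem isGlueingPair_algebra {A : Type u} [CommRing A] [Algebra R A]
    (h : IsGlueingPair R R' f) (hA : IsGlueable R R' f A) :
    letI := Algebra.TensorProduct.rightAlgebra (R := R) (A := R') (B := A)
    IsGlueingPair A (R' ⊗[R] A) (algebraMap R A f) := by
  letI := Algebra.TensorProduct.rightAlgebra (R := R) (A := R') (B := A)
  have hmap : ∀ a : A, algebraMap A (R' ⊗[R] A) a = (1 : R') ⊗ₜ[R] a := fun a => rfl
  have hpow : ∀ (n : ℕ) (y : R' ⊗[R] A),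
      algebraMap A (R' ⊗[R] A) (algebraMap R A f ^ n) * y = f ^ n • y := fun n y => by
    rw [hmap, ← map_pow, Algebra.algebraMap_eq_smul_one, TensorProduct.tmul_smul,
      ← Algebra.TensorProduct.one_def, smul_mul_assoc, one_mul]
  have hpowA : ∀ (n : ℕ) (a : A), algebraMap R A f ^ n * a = f ^ n • a := fun n a => by
    rw [Algebra.smul_def, map_pow]
  have hq : QuotPowBijective A (R' ⊗[R] A) (algebraMap R A f) := by
    intro n _
    refine ⟨?_, fun y => ?_⟩
    · rw [injective_iff_map_eq_zero]
      intro a ha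
      obtain ⟨a, rfl⟩ := Ideal.Quotient.mk_surjective a
      rw [Ideal.quotientMap_mk, Ideal.Quotient.eq_zero_iff_mem, Ideal.map_span,
        Set.image_singleton, Ideal.mem_span_singleton] at ha
      obtain ⟨y, hy⟩ := ha
      rw [hpow, hmap] at hy
      obtain ⟨a', ha'⟩ := pow_smul_dvd_of_tmul h.1 n hy
      rw [Ideal.Quotient.eq_zero_iff_mem, Ideal.mem_span_singleton]
      exact ⟨a', ha'.trans (hpowA n a').symm⟩
    · obtain ⟨y, rfl⟩ := Ideal.Quotient.mk_surjective y
      obtain ⟨a, z, rfl⟩ := exists_tmul_add_pow_smul h.1 n y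
      refine ⟨Ideal.Quotient.mk _ a, ?_⟩
      rw [Ideal.quotientMap_mk, Ideal.Quotient.eq, Ideal.map_span, Set.image_singleton,
        Ideal.mem_span_singleton]
      exact ⟨-z, by rw [hpow, hmap, smul_neg]; abel⟩
  rw [isGlueingPair_iff hq]
  obtain ⟨h1, h2⟩ := (isGlueable_iff_tors h.1 A).mp hA
  refine ⟨fun a ⟨n, hn⟩ ha => h1 a ⟨n, ?_⟩ ha, fun x ⟨n, hn⟩ => ?_⟩
  · rw [← hpowA]; exact hn
  · obtain ⟨a, ⟨m, hm⟩, ha⟩ := h2 x ⟨n, by rw [← hpow]; rwa [Algebra.smul_def] at hn⟩
    exact ⟨a, ⟨m, by rw [smul_eq_mul, hpowA, hm]⟩, ha⟩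

variable {A B : Type u} [CommRing A] [Algebra R A] [CommRing B] [Algebra R B] (φ : A →ₐ[R] B)

/-- A property of `φ` is detected on the two charts. -/
theorem detect {Q : ∀ {R S : Type u} [CommRing R] [CommRing S], (R →+* S) → Prop}
    (hQ : RingHom.IsStableUnderBaseChange @Q) (hQi : RingHom.RespectsIso @Q)
    (core : ∀ [Algebra A B] [IsScalarTower R A B],
      letI := Algebra.TensorProduct.rightAlgebra (R := R) (A := R') (B := A)
      Q (algebraMap (R' ⊗[R] A) ((R' ⊗[R] A) ⊗[A] B)) →
      Q (algebraMap (Localization.Away (algebraMap R A f))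
        (Localization.Away (algebraMap R A f) ⊗[A] B)) → Q (algebraMap A B)) :
    Q φ.toRingHom ↔ Q (Localization.awayMap φ.toRingHom (algebraMap R A f)) ∧
      Q (Algebra.TensorProduct.map (AlgHom.id R R') φ).toRingHom := by
  letI : Algebra A B := φ.toRingHom.toAlgebra
  haveI : IsScalarTower R A B := IsScalarTower.of_algebraMap_eq fun r => (φ.commutes r).symm
  letI := Algebra.TensorProduct.rightAlgebra (R := R) (A := R') (B := A)
  letI := Algebra.TensorProduct.rightAlgebra (R := R) (A := R') (B := B)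
  letI : Algebra (R' ⊗[R] A) (R' ⊗[R] B) :=
    (Algebra.TensorProduct.map (AlgHom.id R R') φ).toRingHom.toAlgebra
  letI : Algebra A (R' ⊗[R] B) := ((algebraMap B (R' ⊗[R] B)).comp (algebraMap A B)).toAlgebra
  haveI : IsScalarTower A B (R' ⊗[R] B) := IsScalarTower.of_algebraMap_eq fun _ => rfl
  haveI : IsScalarTower A (R' ⊗[R] A) (R' ⊗[R] B) := IsScalarTower.of_algebraMap_eq fun a => by
    show (1 : R') ⊗ₜ[R] φ a = Algebra.TensorProduct.map (AlgHom.id R R') φ ((1 : R') ⊗ₜ[R] a)
    rw [Algebra.TensorProduct.map_tmul, AlgHom.id_apply]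
  haveI : IsScalarTower R (R' ⊗[R] A) (R' ⊗[R] B) := IsScalarTower.of_algebraMap_eq fun r =>
    ((Algebra.TensorProduct.map (AlgHom.id R R') φ).commutes r).symm
  haveI : IsScalarTower R' (R' ⊗[R] A) (R' ⊗[R] B) := IsScalarTower.of_algebraMap_eq fun r => by
    show r ⊗ₜ[R] (1 : B) = Algebra.TensorProduct.map (AlgHom.id R R') φ (r ⊗ₜ[R] (1 : A))
    rw [Algebra.TensorProduct.map_tmul, AlgHom.id_apply, map_one]
  haveI : Algebra.IsPushout R A R' (R' ⊗[R] A) := Algebra.IsPushout.symm inferInstance
  haveI : Algebra.IsPushout R B R' (R' ⊗[R] B) := Algebra.IsPushout.symm inferInstance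
  haveI hpt : Algebra.IsPushout A B (R' ⊗[R] A) (R' ⊗[R] B) :=
    (Algebra.IsPushout.comp_iff R A R' (R' ⊗[R] A) (T := B) (T' := R' ⊗[R] B)).mp inferInstance
  set g := algebraMap R A f
  letI : Algebra (Localization.Away g) (Localization.Away (φ.toRingHom g)) :=
    (Localization.awayMap φ.toRingHom g).toAlgebra
  haveI : IsScalarTower A (Localization.Away g) (Localization.Away (φ.toRingHom g)) :=
    IsScalarTower.of_algebraMap_eq fun a => by
      rw [IsScalarTower.algebraMap_apply A B (Localization.Away (φ.toRingHom g))]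
      symm
      exact IsLocalization.map_eq (S := Localization.Away g) (Q := Localization.Away (φ.toRingHom g))
        (M := Submonoid.powers g) (T := Submonoid.powers (φ.toRingHom g)) (g := φ.toRingHom)
        (by rintro _ ⟨n, rfl⟩; exact ⟨n, (map_pow φ.toRingHom g n).symm⟩) a
  haveI : IsLocalization (Algebra.algebraMapSubmonoid B (Submonoid.powers g))
      (Localization.Away (φ.toRingHom g)) := by
    rw [show Algebra.algebraMapSubmonoid B (Submonoid.powers g) = Submonoid.powers (φ.toRingHom g) from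
      Submonoid.map_powers _ _]
    infer_instance
  haveI hpl : Algebra.IsPushout A B (Localization.Away g) (Localization.Away (φ.toRingHom g)) :=
    Algebra.isPushout_of_isLocalization (Submonoid.powers g) (Localization.Away g) B
      (Localization.Away (φ.toRingHom g))
  haveI := hpt.symm
  haveI := hpl.symm
  constructor
  · intro h
    exact ⟨hQ A B (Localization.Away g) (Localization.Away (φ.toRingHom g)) h,
      hQ A B (R' ⊗[R] A) (R' ⊗[R] B) h⟩
  · rintro ⟨hl, ht⟩
    exact core ((iff_tensor (B' := R' ⊗[R] B) hQi).mp ht)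
      ((iff_tensor (B' := Localization.Away (φ.toRingHom g)) hQi).mp hl)

end Pair

end Groth.L05.Glue
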