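import Groth.Agent.L05.Glue.FlatIdeal
import Mathlib.Algebra.Module.LocalizedModule.Basic

/-! # Extensions of torsion modules descend along a flat map inducing an isomorphism modulo `I` -/

set_option autoImplicit false

universe u

open TensorProduct

noncomputable section

namespace Groth.L05.GlueFlat

variable {R S : Type u} [CommRing R] [CommRing S] [Algebra R S] (I : Ideal R)

/-- The `I`-power torsion submodule. -/
def torsSubmodule (M : Type u) [AddCommGroup M] [Module R M] : Submodule R M where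
  carrier := {m | IsITors I m}
  add_mem' := by
    rintro a b ⟨n, hn⟩ ⟨k, hk⟩
    refine ⟨n + k, fun c hc => ?_⟩
    rw [smul_add, hn c (Ideal.pow_le_pow_right (Nat.le_add_right n k) hc),
      hk c (Ideal.pow_le_pow_right (Nat.le_add_left k n) hc), add_zero]
  zero_mem' := ⟨0, fun c _ => smul_zero c⟩
  smul_mem' := fun r a ⟨n, hn⟩ => ⟨n, fun c hc => by rw [smul_comm, hn c hc, smul_zero]⟩

/-- A map from `A` to a module on which `f` is invertible extends to an extension with torsion cokernel. -/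
theorem exists_extend (f : R) {A E X : Type u} [AddCommGroup A] [Module R A] [AddCommGroup E]
    [Module R E] [AddCommGroup X] [Module R X] (i : A →ₗ[R] E) (hi : Function.Injective i)
    (he : ∀ e : E, ∃ k : ℕ, f ^ k • e ∈ LinearMap.range i)
    (hX : IsUnit (algebraMap R (Module.End R X) f)) (h : A →ₗ[R] X) :
    ∃ φ : E →ₗ[R] X, ∀ x, φ (i x) = h x := by
  let P := Submonoid.powers f
  have hP : ∀ s : P, IsUnit (algebraMap R (Module.End R X) s) := by
    rintro ⟨_, n, rfl⟩
    exact (map_pow (algebraMap R (Module.End R X)) f n).symm ▸ hX.pow n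
  let gA := LocalizedModule.mkLinearMap P A
  let gE := LocalizedModule.mkLinearMap P E
  let m := IsLocalizedModule.map P gA gE i
  have hm : Function.Bijective m := by
    refine ⟨IsLocalizedModule.map_injective P gA gE i hi, fun y => ?_⟩
    obtain ⟨⟨e, s⟩, rfl⟩ := IsLocalizedModule.mk'_surjective P gE y
    obtain ⟨k, x, hx⟩ := he e
    refine ⟨IsLocalizedModule.mk' gA x ((⟨f ^ k, k, rfl⟩ : P) * s), ?_⟩
    show m (IsLocalizedModule.mk' gA x _) = IsLocalizedModule.mk' gE e s
    rw [IsLocalizedModule.map_mk', hx]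
    exact IsLocalizedModule.mk'_cancel_left (f := gE) e (⟨f ^ k, k, rfl⟩ : P) s
  refine ⟨(IsLocalizedModule.lift P gA h hP).comp
    ((LinearEquiv.ofBijective m hm).symm.toLinearMap.comp gE), fun x => ?_⟩
  have h1 : (LinearEquiv.ofBijective m hm).symm (gE (i x)) = gA x := by
    rw [LinearEquiv.symm_apply_eq]
    exact (IsLocalizedModule.map_apply P gA gE i x).symm
  simp only [LinearMap.comp_apply, LinearEquiv.coe_coe, h1]
  exact IsLocalizedModule.lift_apply P gA h hP x

variable [Module.Flat R S]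

/-- `S ⊗ Q` has no `I`-power torsion when `Q` has none. -/
theorem eq_zero_of_torsFree {t : ℕ} (f : Fin t → R) (hI : Ideal.span (Set.range f) = I)
    (Q : Type u) [AddCommGroup Q] [Module R Q] (hQ : ∀ q : Q, IsITors I q → q = 0)
    (x : S ⊗[R] Q) (hx : IsITors I x) : x = 0 := by
  obtain ⟨n, hn⟩ := hx
  let Φ : Q →ₗ[R] (Fin t → Q) := LinearMap.pi fun i => f i ^ n • LinearMap.id
  have hΦ : Function.Injective Φ := (injective_iff_map_eq_zero _).mpr fun q hq =>
    hQ q (isITors_of_forall_smul_eq_zero I q f hI fun i => ⟨n, congrFun hq i⟩)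
  apply Module.Flat.lTensor_preserves_injective_linearMap (M := S) Φ hΦ
  rw [map_zero]
  apply (TensorProduct.piRight R R S (fun _ : Fin t => Q)).injective
  rw [map_zero]
  ext i
  have hproj : ∀ w : S ⊗[R] (Fin t → Q),
      TensorProduct.piRight R R S (fun _ : Fin t => Q) w i = (LinearMap.proj i).lTensor S w := by
    intro w
    induction w using TensorProduct.induction_on with
    | zero => simp
    | tmul s v => simp
    | add a b ha hb => rw [map_add, Pi.add_apply, map_add, ha, hb]
  rw [hproj, ← LinearMap.lTensor_comp_apply,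
    show (LinearMap.proj i).comp Φ = f i ^ n • LinearMap.id from LinearMap.ext fun _ => rfl,
    LinearMap.lTensor_smul, LinearMap.lTensor_id]
  exact hn _ (Ideal.pow_mem_pow (hI ▸ Ideal.subset_span ⟨i, rfl⟩) n)

variable (hq : Function.Bijective
  (Ideal.quotientMap (I.map (algebraMap R S)) (algebraMap R S) Ideal.le_comap_map))

include hq

theorem exists_extension (hfg : I.FG) (N M : Type u) [AddCommGroup N] [Module R N] [AddCommGroup M]
    [Module R M] (hM : ∀ m : M, IsITors I m)
    (E' : Type u) [AddCommGroup E'] [Module S E'] [Module R E'] [IsScalarTower R S E']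
    (i' : S ⊗[R] N →ₗ[S] E') (p' : E' →ₗ[S] S ⊗[R] M)
    (hi' : Function.Injective i') (hp' : Function.Surjective p')
    (hex' : LinearMap.range i' = LinearMap.ker p') :
    ∃ (E : Type u) (_ : AddCommGroup E) (_ : Module R E) (i : N →ₗ[R] E) (p : E →ₗ[R] M) (g : E →ₗ[R] E'),
      Function.Injective i ∧ Function.Surjective p ∧ LinearMap.range i = LinearMap.ker p ∧
      (∀ n : N, g (i n) = i' ((1 : S) ⊗ₜ[R] n)) ∧ (∀ e : E, p' (g e) = (1 : S) ⊗ₜ[R] p e) := by
  classical
  obtain ⟨t, f, hI⟩ := Submodule.fg_iff_exists_fin_generating_family.mp hfg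
  have hfI : ∀ i, f i ∈ I := fun i => hI ▸ Ideal.subset_span ⟨i, rfl⟩
  have hMb := bijective_of_isITors (S := S) I hq M hM
  let iR : S ⊗[R] N →ₗ[R] E' := i'.restrictScalars R
  have hE : ∀ e : E', ∃ n : ℕ, ∀ c ∈ I ^ n, c • e ∈ LinearMap.range iR := by
    intro e
    obtain ⟨m, hm⟩ := hMb.2 (p' e)
    obtain ⟨n, hn⟩ := hM m
    refine ⟨n, fun c hc => ?_⟩
    have h1 : c • e ∈ LinearMap.range i' := by
      rw [hex', LinearMap.mem_ker, p'.map_smul_of_tower, ← hm, ← TensorProduct.tmul_smul, hn c hc,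
        TensorProduct.tmul_zero]
    exact h1
  let W := ∀ i : Fin t, LocalizedModule (Submonoid.powers (f i)) N
  let b : N →ₗ[R] W := LinearMap.pi fun i => LocalizedModule.mkLinearMap (Submonoid.powers (f i)) N
  let Z : Submodule R W := (torsSubmodule I (W ⧸ LinearMap.range b)).comap (LinearMap.range b).mkQ
  have hbZ : ∀ n, b n ∈ Z := fun n => ⟨0, fun c _ => by
    rw [show (LinearMap.range b).mkQ (b n) = 0 from (Submodule.Quotient.mk_eq_zero _).mpr ⟨n, rfl⟩,
      smul_zero]⟩
  let a : N →ₗ[R] Z := b.codRestrict Z hbZ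
  have hker : ∀ n : LinearMap.ker a, IsITors I n := fun n =>
    isITors_of_forall_smul_eq_zero I n f hI fun i => by
      have h1 : LocalizedModule.mkLinearMap (Submonoid.powers (f i)) N (n : N) = 0 :=
        congrFun (congrArg Subtype.val (LinearMap.mem_ker.mp n.2)) i
      obtain ⟨⟨_, k, rfl⟩, hk⟩ := (IsLocalizedModule.eq_zero_iff (Submonoid.powers (f i)) _).mp h1
      exact ⟨k, Subtype.ext hk⟩
  have hcoker : ∀ h : Z ⧸ LinearMap.range a, IsITors I h := fun h => by
    obtain ⟨⟨z, n, hn⟩, rfl⟩ := Submodule.Quotient.mk_surjective _ h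
    refine ⟨n, fun c hc => ?_⟩
    have h1 := hn c hc
    rw [← map_smul, Submodule.mkQ_apply, Submodule.Quotient.mk_eq_zero] at h1
    obtain ⟨y, hy⟩ := h1
    rw [← Submodule.Quotient.mk_smul, Submodule.Quotient.mk_eq_zero]
    exact ⟨y, Subtype.ext hy⟩
  have hfree : ∀ q : W ⧸ Z, IsITors I q → q = 0 := by
    intro q hq'
    obtain ⟨w, rfl⟩ := Submodule.Quotient.mk_surjective _ q
    obtain ⟨n, hn⟩ := hq'
    rw [Submodule.Quotient.mk_eq_zero]
    have hk : ∀ i, ∃ k, f i ^ k • (LinearMap.range b).mkQ w = 0 := fun i => by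
      have h1 := hn _ (Ideal.pow_mem_pow (hfI i) n)
      rw [← Submodule.Quotient.mk_smul, Submodule.Quotient.mk_eq_zero] at h1
      obtain ⟨k, hk⟩ := (h1 : IsITors I _)
      refine ⟨k + n, ?_⟩
      rw [pow_add, mul_smul, ← map_smul]
      exact hk _ (Ideal.pow_mem_pow (hfI i) k)
    exact isITors_of_forall_smul_eq_zero I _ f hI hk
  -- the extension of `1 ⊗ a` to `E'`
  have hloc : ∀ i, ∃ φ : E' →ₗ[R] S ⊗[R] LocalizedModule (Submonoid.powers (f i)) N,
      ∀ x, φ (iR x) = (LocalizedModule.mkLinearMap (Submonoid.powers (f i)) N).lTensor S x := by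
    intro i
    refine exists_extend (f i) iR hi' (fun e => ?_) ?_ _
    · obtain ⟨n, hn⟩ := hE e
      exact ⟨n, hn _ (Ideal.pow_mem_pow (hfI i) n)⟩
    · have h := (IsLocalizedModule.map_units (LocalizedModule.mkLinearMap (Submonoid.powers (f i)) N)
        ⟨f i, Submonoid.mem_powers _⟩)
      rw [Module.End.isUnit_iff] at h ⊢
      have h2 : (fun x : S ⊗[R] LocalizedModule (Submonoid.powers (f i)) N => f i • x) =
          LinearMap.lTensor S (LinearEquiv.ofBijective
            (algebraMap R (Module.End R (LocalizedModule (Submonoid.powers (f i)) N)) (f i)) h).toLinearMap := by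
        funext x
        induction x using TensorProduct.induction_on with
        | zero => simp
        | tmul s v => simp [TensorProduct.tmul_smul]
        | add x y hx hy => rw [smul_add, hx, hy, map_add]
      show Function.Bijective fun x : S ⊗[R] LocalizedModule (Submonoid.powers (f i)) N => f i • x
      rw [h2]
      exact (LinearEquiv.lTensor S _).bijective
  choose φi hφi using hloc
  let φ : E' →ₗ[R] S ⊗[R] W := ∑ i, ((LinearMap.single R _ i).lTensor S).comp (φi i)
  have hφ : ∀ x, φ (iR x) = b.lTensor S x := by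
    intro x
    simp only [φ, LinearMap.sum_apply, LinearMap.comp_apply, hφi, ← LinearMap.lTensor_comp_apply]
    induction x using TensorProduct.induction_on with
    | zero => simp
    | tmul s n =>
      simp only [LinearMap.lTensor_tmul, ← TensorProduct.tmul_sum]
      congr 1
      exact LinearMap.sum_single_apply _ (b n)
    | add x y hx hy => simp only [map_add, Finset.sum_add_distrib, hx, hy]
  have hba : Z.subtype.comp a = b := LinearMap.ext fun _ => rfl
  have hι : Function.Injective (Z.subtype.lTensor S) :=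
    Module.Flat.lTensor_preserves_injective_linearMap _ (Submodule.injective_subtype Z)
  have hφZ : ∀ e, ∃ w, Z.subtype.lTensor S w = φ e := by
    intro e
    refine (Module.Flat.lTensor_exact S (LinearMap.exact_subtype_mkQ Z) (φ e)).mp ?_
    obtain ⟨n, hn⟩ := hE e
    refine eq_zero_of_torsFree I f hI _ hfree _ ⟨n, fun c hc => ?_⟩
    obtain ⟨x, hx⟩ := hn c hc
    rw [← map_smul, ← map_smul φ, ← hx, hφ, ← LinearMap.lTensor_comp_apply,
      show Z.mkQ.comp b = 0 from LinearMap.ext fun n => (Submodule.Quotient.mk_eq_zero _).mpr (hbZ n),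
      LinearMap.lTensor_zero, LinearMap.zero_apply]
  -- the fibre product
  let Φ₁ : E' × Z →ₗ[R] S ⊗[R] W := φ.comp (LinearMap.fst R E' Z)
  let Φ₂ : E' × Z →ₗ[R] S ⊗[R] W :=
    ((Z.subtype.lTensor S).comp (TensorProduct.mk R S Z 1)).comp (LinearMap.snd R E' Z)
  let E := LinearMap.eqLocus Φ₁ Φ₂
  have hiE : ∀ n : N, (i' ((1 : S) ⊗ₜ[R] n), a n) ∈ E := fun n => by
    show φ (iR ((1 : S) ⊗ₜ[R] n)) = Z.subtype.lTensor S ((1 : S) ⊗ₜ[R] a n)
    rw [hφ, LinearMap.lTensor_tmul, LinearMap.lTensor_tmul]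
    rfl
  let i : N →ₗ[R] E := ((iR.comp (TensorProduct.mk R S N 1)).prod a).codRestrict E hiE
  let g : E →ₗ[R] E' := (LinearMap.fst R E' Z).comp E.subtype
  let eM := LinearEquiv.ofBijective (TensorProduct.mk R S M 1) hMb
  let p : E →ₗ[R] M := eM.symm.toLinearMap.comp ((p'.restrictScalars R).comp g)
  have hpg : ∀ e : E, p' (g e) = (1 : S) ⊗ₜ[R] p e := fun e => (eM.apply_symm_apply _).symm
  have hq1 : (LinearMap.range a).mkQ.comp a = 0 := LinearMap.ext fun n =>
    (Submodule.Quotient.mk_eq_zero _).mpr ⟨n, rfl⟩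
  refine ⟨E, inferInstance, inferInstance, i, p, g, ?_, ?_, ?_, fun n => rfl, hpg⟩
  · refine (injective_iff_map_eq_zero _).mpr fun n hn => ?_
    have h1 : i' ((1 : S) ⊗ₜ[R] n) = 0 := congrArg (fun e : E => e.1.1) hn
    have h2 : a n = 0 := congrArg (fun e : E => e.1.2) hn
    refine eq_zero_of_isITors I hq ?_ (hi' (h1.trans (map_zero i').symm))
    obtain ⟨k, hk⟩ := hker ⟨n, h2⟩
    exact ⟨k, fun c hc => congrArg Subtype.val (hk c hc)⟩
  · intro m
    obtain ⟨e, he⟩ := hp' ((1 : S) ⊗ₜ[R] m)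
    obtain ⟨w, hw⟩ := hφZ e
    obtain ⟨h, hh⟩ := (bijective_of_isITors (S := S) I hq _ hcoker).2
      ((LinearMap.range a).mkQ.lTensor S w)
    obtain ⟨z, rfl⟩ := Submodule.Quotient.mk_surjective _ h
    obtain ⟨x, hx⟩ := (lTensor_exact S (LinearMap.exact_map_mkQ_range a) (Submodule.mkQ_surjective _)
      (w - (1 : S) ⊗ₜ[R] z)).mp (by
        rw [map_sub, ← hh, LinearMap.lTensor_tmul]; exact sub_self _)
    refine ⟨⟨(e - i' x, z), ?_⟩, ?_⟩
    · show φ (e - iR x) = Z.subtype.lTensor S ((1 : S) ⊗ₜ[R] z)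
      rw [map_sub, hφ, ← hw, ← hba, LinearMap.lTensor_comp_apply, hx, ← map_sub, sub_sub_cancel]
    · show eM.symm (p' (e - i' x)) = m
      rw [map_sub, he, show p' (i' x) = 0 from LinearMap.mem_ker.mp (hex' ▸ ⟨x, rfl⟩), sub_zero]
      exact eM.symm_apply_apply m
  · refine le_antisymm ?_ ?_
    · rintro _ ⟨n, rfl⟩
      show eM.symm (p' (i' ((1 : S) ⊗ₜ[R] n))) = 0
      rw [show p' (i' ((1 : S) ⊗ₜ[R] n)) = 0 from LinearMap.mem_ker.mp (hex' ▸ ⟨_, rfl⟩), map_zero]
    · rintro ⟨⟨e, z⟩, hez⟩ hp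
      have h0 : p' e = 0 := by
        have := hpg ⟨(e, z), hez⟩
        rw [LinearMap.mem_ker.mp hp, TensorProduct.tmul_zero] at this
        exact this
      obtain ⟨x, rfl⟩ : e ∈ LinearMap.range i' := hex'.symm ▸ h0
      have hxz : a.lTensor S x = (1 : S) ⊗ₜ[R] z := hι (by
        rw [← LinearMap.lTensor_comp_apply, hba, ← hφ]; exact hez)
      have hz0 : (LinearMap.range a).mkQ z = 0 := (bijective_of_isITors (S := S) I hq _ hcoker).1 (by
        show (1 : S) ⊗ₜ[R] (LinearMap.range a).mkQ z = (1 : S) ⊗ₜ[R] (0 : Z ⧸ LinearMap.range a)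
        rw [← LinearMap.lTensor_tmul, ← hxz, ← LinearMap.lTensor_comp_apply, hq1, LinearMap.lTensor_zero,
          LinearMap.zero_apply, TensorProduct.tmul_zero])
      obtain ⟨n, rfl⟩ := (Submodule.Quotient.mk_eq_zero _).mp hz0
      obtain ⟨w, hw⟩ := (Module.Flat.lTensor_exact S (LinearMap.exact_subtype_ker_map a)
        (x - (1 : S) ⊗ₜ[R] n)).mp (by rw [map_sub, hxz, LinearMap.lTensor_tmul, sub_self])
      obtain ⟨t', rfl⟩ := (bijective_of_isITors (S := S) I hq _ hker).2 w
      rw [LinearMap.lTensor_tmul] at hw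
      refine ⟨n + (t' : N), Subtype.ext (Prod.ext ?_ ?_)⟩
      · show i' ((1 : S) ⊗ₜ[R] (n + (t' : N))) = i' x
        rw [TensorProduct.tmul_add, show (1 : S) ⊗ₜ[R] (t' : N) = x - (1 : S) ⊗ₜ[R] n from hw,
          add_sub_cancel]
      · show a (n + (t' : N)) = a n
        rw [map_add, LinearMap.mem_ker.mp t'.2, add_zero]

end Groth.L05.GlueFlat

end
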