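import Groth.Prelude.Def_EtGlue
import Mathlib.LinearAlgebra.TensorProduct.Quotient
import Mathlib.LinearAlgebra.TensorProduct.RightExactness
import Mathlib.LinearAlgebra.TensorProduct.Pi
import Mathlib.RingTheory.Flat.Basic
import Mathlib.RingTheory.Ideal.Operations
import Mathlib.RingTheory.Finiteness.Ideal
import Mathlib.Tactic.Module

/-!
# Glueing along a finitely generated ideal for a flat map
-/

universe u

open TensorProduct

namespace Groth.L05.GlueFlat

variable {R S : Type u} [CommRing R] [CommRing S] [Algebra R S] (I : Ideal R)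

/-- `m` is killed by a power of `I`. -/
def IsITors {M : Type u} [AddCommGroup M] [Module R M] (m : M) : Prop :=
  ∃ n : ℕ, ∀ a ∈ I ^ n, a • m = 0

variable (hq : Function.Bijective
  (Ideal.quotientMap (I.map (algebraMap R S)) (algebraMap R S) Ideal.le_comap_map))

include hq

theorem bijective_of_smul_eq_zero (T : Type u) [AddCommGroup T] [Module R T]
    (hT : ∀ a ∈ I, ∀ t : T, a • t = 0) : Function.Bijective fun t : T => (1 : S) ⊗ₜ[R] t := by
  constructor
  · let q : (R ⧸ I) →ₗ[R] S ⧸ I.map (algebraMap R S) :=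
      { toFun := Ideal.quotientMap (I.map (algebraMap R S)) (algebraMap R S) Ideal.le_comap_map
        map_add' := fun a b => map_add _ a b
        map_smul' := fun r a => by
          obtain ⟨a, rfl⟩ := Ideal.Quotient.mk_surjective a
          show Ideal.Quotient.mk (I.map (algebraMap R S)) (algebraMap R S (r * a)) =
            Ideal.Quotient.mk (I.map (algebraMap R S)) (r • algebraMap R S a)
          rw [map_mul, Algebra.smul_def] }
    let π : S →ₗ[R] R ⧸ I :=
      (LinearEquiv.ofBijective q hq).symm.toLinearMap.comp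
        (Ideal.Quotient.mkₐ R (I.map (algebraMap R S))).toLinearMap
    have hπ : π 1 = Ideal.Quotient.mk I 1 := by
      show (LinearEquiv.ofBijective q hq).symm (Ideal.Quotient.mk _ 1) = _
      rw [LinearEquiv.symm_apply_eq]
      show Ideal.Quotient.mk _ (1 : S) =
        Ideal.quotientMap (I.map (algebraMap R S)) (algebraMap R S) Ideal.le_comap_map (Ideal.Quotient.mk I 1)
      rw [Ideal.quotientMap_mk]; simp
    intro a b h
    have h1 := congrArg (fun z => quotTensorEquivQuotSMul T I (π.rTensor T z)) h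
    simp only [LinearMap.rTensor_tmul, hπ, quotTensorEquivQuotSMul_mk_tmul, one_smul] at h1
    rw [Submodule.Quotient.eq] at h1
    have h2 : (I • ⊤ : Submodule R T) ≤ ⊥ :=
      Submodule.smul_le.mpr fun r hr t _ => (Submodule.mem_bot R).mpr (hT r hr t)
    exact sub_eq_zero.mp ((Submodule.mem_bot R).mp (h2 h1))
  · intro x
    induction x using TensorProduct.induction_on with
    | zero => exact ⟨0, TensorProduct.tmul_zero _ _⟩
    | tmul s t =>
      obtain ⟨r, hr⟩ := hq.2 (Ideal.Quotient.mk _ s)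
      obtain ⟨r, rfl⟩ := Ideal.Quotient.mk_surjective r
      rw [Ideal.quotientMap_mk, Ideal.Quotient.eq] at hr
      refine ⟨r • t, ?_⟩
      have h1 : ∀ y ∈ I.map (algebraMap R S), y ⊗ₜ[R] t = 0 := fun y hy => by
        rw [Ideal.map, ← Ideal.submodule_span_eq] at hy
        induction hy using Submodule.span_induction with
        | mem y hy =>
          obtain ⟨a, ha, rfl⟩ := hy
          rw [Algebra.algebraMap_eq_smul_one, smul_tmul, hT a ha, TensorProduct.tmul_zero]
        | zero => exact TensorProduct.zero_tmul _ _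
        | add y z _ _ hy hz => rw [TensorProduct.add_tmul, hy, hz, add_zero]
        | smul c y _ hy => rw [← smul_tmul', hy, smul_zero]
      have h2 := h1 _ hr
      rw [TensorProduct.sub_tmul, sub_eq_zero, Algebra.algebraMap_eq_smul_one, smul_tmul] at h2
      exact h2
    | add x y hx hy =>
      obtain ⟨p, rfl⟩ := hx
      obtain ⟨q, rfl⟩ := hy
      exact ⟨p + q, TensorProduct.tmul_add _ _ _⟩

variable [Module.Flat R S]

theorem bijective_of_pow_smul_eq_zero : ∀ (n : ℕ) (T : Type u) [AddCommGroup T] [Module R T],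
    (∀ a ∈ I ^ n, ∀ t : T, a • t = 0) → Function.Bijective fun t : T => (1 : S) ⊗ₜ[R] t := by
  intro n
  induction n with
  | zero =>
    intro T _ _ hT
    haveI : Subsingleton T := ⟨fun a b => by
      have h1 : ∀ t : T, t = 0 := fun t => by simpa using hT 1 (by simp) t
      rw [h1 a, h1 b]⟩
    haveI : Subsingleton (S ⊗[R] T) := ⟨fun a b => by
      have h1 : ∀ t : S ⊗[R] T, t = 0 := fun t => by
        induction t using TensorProduct.induction_on with
        | zero => rfl
        | tmul s t => rw [Subsingleton.elim t 0, TensorProduct.tmul_zero]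
        | add x y hx hy => rw [hx, hy, add_zero]
      rw [h1 a, h1 b]⟩
    exact ⟨fun _ _ _ => Subsingleton.elim _ _, fun _ => ⟨0, Subsingleton.elim _ _⟩⟩
  | succ n ih =>
    intro T _ _ hT
    let T' : Submodule R T := I • ⊤
    have hT' : ∀ a ∈ I ^ n, ∀ t : T', a • t = 0 := by
      intro a ha ⟨t, ht⟩
      refine Subtype.ext ?_
      show a • t = 0
      induction ht using Submodule.smul_induction_on' with
      | smul b hb y _ => rw [← mul_smul]; exact hT _ (pow_succ I n ▸ Ideal.mul_mem_mul ha hb) y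
      | add x _ y _ hx hy => rw [smul_add, hx, hy, add_zero]
    have hQ : ∀ a ∈ I, ∀ q : T ⧸ T', a • q = 0 := by
      intro a ha q
      obtain ⟨t, rfl⟩ := Submodule.Quotient.mk_surjective _ q
      rw [← Submodule.Quotient.mk_smul, Submodule.Quotient.mk_eq_zero]
      exact Submodule.smul_mem_smul ha Submodule.mem_top
    have hb₁ := ih T' hT'
    have hb₂ := bijective_of_smul_eq_zero I hq (T ⧸ T') hQ
    constructor
    · intro a b hab
      rw [← sub_eq_zero]
      have h0 : (1 : S) ⊗ₜ[R] (a - b) = 0 := by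
        rw [TensorProduct.tmul_sub]; exact sub_eq_zero.mpr hab
      have h1 : T'.mkQ (a - b) = 0 := hb₂.1 (by
        show (1 : S) ⊗ₜ[R] T'.mkQ (a - b) = (1 : S) ⊗ₜ[R] (0 : T ⧸ T')
        rw [← LinearMap.lTensor_tmul, h0, map_zero, TensorProduct.tmul_zero])
      rw [Submodule.mkQ_apply, Submodule.Quotient.mk_eq_zero] at h1
      have h2 : (⟨a - b, h1⟩ : T') = 0 := hb₁.1 (by
        apply Module.Flat.lTensor_preserves_injective_linearMap (M := S) T'.subtype
          (Submodule.injective_subtype _)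
        simp [h0])
      exact congrArg Subtype.val h2
    · intro y
      obtain ⟨q, hq'⟩ := hb₂.2 (T'.mkQ.lTensor S y)
      obtain ⟨t, rfl⟩ := Submodule.Quotient.mk_surjective _ q
      obtain ⟨w, hw⟩ := (lTensor_exact S (LinearMap.exact_subtype_mkQ T')
        (Submodule.mkQ_surjective _) (y - (1 : S) ⊗ₜ[R] t)).mp (by
          rw [map_sub, LinearMap.lTensor_tmul, Submodule.mkQ_apply, ← hq', sub_self])
      obtain ⟨t', rfl⟩ := hb₁.2 w
      refine ⟨t + (t' : T), ?_⟩
      show (1 : S) ⊗ₜ[R] (t + (t' : T)) = y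
      rw [TensorProduct.tmul_add, ← eq_sub_iff_add_eq', ← hw]
      rfl

theorem bijective_of_isITors (T : Type u) [AddCommGroup T] [Module R T]
    (hT : ∀ t : T, IsITors I t) : Function.Bijective fun t : T => (1 : S) ⊗ₜ[R] t := by
  have hcyc : ∀ t : T, Function.Bijective fun w : Submodule.span R {t} => (1 : S) ⊗ₜ[R] w := fun t => by
    obtain ⟨n, hn⟩ := hT t
    refine bijective_of_pow_smul_eq_zero I hq n _ fun a ha w => ?_
    obtain ⟨r, hr⟩ := Submodule.mem_span_singleton.mp w.2
    exact Subtype.ext (by rw [Submodule.coe_smul, ← hr, smul_comm, hn a ha, smul_zero]; rfl)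
  constructor
  · intro a b hab
    rw [← sub_eq_zero]
    have h2 : (⟨a - b, Submodule.mem_span_singleton_self _⟩ : Submodule.span R {a - b}) = 0 :=
      (hcyc (a - b)).1 (by
        apply Module.Flat.lTensor_preserves_injective_linearMap (M := S) (Submodule.span R {a - b}).subtype
          (Submodule.injective_subtype _)
        simp only [LinearMap.lTensor_tmul, Submodule.subtype_apply, TensorProduct.tmul_sub,
          TensorProduct.tmul_zero, map_zero]
        exact sub_eq_zero.mpr hab)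
    exact congrArg Subtype.val h2
  · intro x
    induction x using TensorProduct.induction_on with
    | zero => exact ⟨0, TensorProduct.tmul_zero _ _⟩
    | tmul s t =>
      obtain ⟨w, hw⟩ := (hcyc t).2 (s ⊗ₜ[R] (⟨t, Submodule.mem_span_singleton_self t⟩ : Submodule.span R {t}))
      exact ⟨w, congrArg ((Submodule.span R {t}).subtype.lTensor S) hw⟩
    | add x y hx hy =>
      obtain ⟨p, rfl⟩ := hx
      obtain ⟨q, rfl⟩ := hy
      exact ⟨p + q, TensorProduct.tmul_add _ _ _⟩

/-- A torsion element dying in `S ⊗ M` is zero. -/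
theorem eq_zero_of_isITors {M : Type u} [AddCommGroup M] [Module R M] {m : M} (hm : IsITors I m)
    (h : (1 : S) ⊗ₜ[R] m = 0) : m = 0 := by
  obtain ⟨n, hn⟩ := hm
  have hT : ∀ w : Submodule.span R {m}, IsITors I w := fun w => ⟨n, fun a ha => by
    obtain ⟨r, hr⟩ := Submodule.mem_span_singleton.mp w.2
    exact Subtype.ext (by rw [Submodule.coe_smul, ← hr, smul_comm, hn a ha, smul_zero]; rfl)⟩
  have h2 : (⟨m, Submodule.mem_span_singleton_self _⟩ : Submodule.span R {m}) = 0 :=
    (bijective_of_isITors I hq _ hT).1 (by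
      apply Module.Flat.lTensor_preserves_injective_linearMap (M := S) (Submodule.span R {m}).subtype
        (Submodule.injective_subtype _)
      simpa using h)
  exact congrArg Subtype.val h2

omit hq [Module.Flat R S] in
theorem isITors_of_forall_smul_eq_zero {M : Type u} [AddCommGroup M] [Module R M] (m : M) {t : ℕ}
    (f : Fin t → R) (hI : Ideal.span (Set.range f) = I) (h : ∀ i, ∃ n : ℕ, f i ^ n • m = 0) :
    IsITors I m := by
  let J : Ideal R :=
    { carrier := {a | a • m = 0}
      add_mem' := fun {a b} (ha : a • m = 0) (hb : b • m = 0) => show (a + b) • m = 0 by rw [add_smul, ha, hb, add_zero]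
      zero_mem' := zero_smul R m
      smul_mem' := fun c a (ha : a • m = 0) => show (c * a) • m = 0 by rw [mul_smul, ha, smul_zero] }
  have hle : I ≤ J.radical := by
    rw [← hI, Ideal.span_le]
    rintro _ ⟨i, rfl⟩
    obtain ⟨n, hn⟩ := h i
    exact ⟨n, hn⟩
  obtain ⟨n, hn⟩ := Ideal.exists_pow_le_of_le_radical_of_fg hle
    (hI ▸ Submodule.fg_span (Set.finite_range f))
  exact ⟨n, fun a ha => hn ha⟩

/-- The strict middle exactness. -/
theorem exists_strict_glue {t : ℕ} (f : Fin t → R) (hI : Ideal.span (Set.range f) = I) (L : ℕ)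
    {M : Type u} [AddCommGroup M] [Module R M] (x : S ⊗[R] M) (m : Fin t → M)
    (hx : ∀ i, f i ^ L • x = (1 : S) ⊗ₜ[R] m i)
    (hm : ∀ i j, f j ^ L • m i = f i ^ L • m j) :
    ∃ μ : M, (1 : S) ⊗ₜ[R] μ = x ∧ ∀ i, f i ^ L • μ = m i := by
  let Rel : Submodule R (M × R) := Submodule.span R (Set.range fun i => (-m i, f i ^ L))
  let ι : M →ₗ[R] (M × R) ⧸ Rel := Rel.mkQ.comp (LinearMap.inl R M R)
  let ε : (M × R) ⧸ Rel := Rel.mkQ (0, 1)
  have hε : ∀ i, f i ^ L • ε = ι (m i) := fun i => by
    show f i ^ L • Rel.mkQ (0, 1) = Rel.mkQ (m i, 0)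
    rw [← map_smul, Submodule.mkQ_apply, Submodule.mkQ_apply, Submodule.Quotient.eq]
    exact Submodule.subset_span ⟨i, by simp⟩
  have hι : Function.Injective ι := by
    rw [injective_iff_map_eq_zero]
    intro a ha
    have ha' : (a, (0 : R)) ∈ Rel := (Submodule.Quotient.mk_eq_zero _).mp ha
    obtain ⟨c, hc⟩ := (Submodule.mem_span_range_iff_exists_fun R).mp ha'
    have hc1 : a = -∑ i, c i • m i := by
      have := congrArg Prod.fst hc
      simpa [Prod.fst_sum, smul_neg] using this.symm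
    have hc2 : ∑ i, c i * f i ^ L = 0 := by
      have := congrArg Prod.snd hc
      simpa [Prod.snd_sum] using this
    refine eq_zero_of_isITors I hq (isITors_of_forall_smul_eq_zero I a f hI fun j => ⟨L, ?_⟩) ?_
    · rw [hc1, smul_neg, Finset.smul_sum, neg_eq_zero,
        show ∑ i, f j ^ L • c i • m i = ∑ i, (c i * f i ^ L) • m j from
          Finset.sum_congr rfl fun i _ => by rw [smul_comm, hm i j, mul_smul],
        ← Finset.sum_smul, hc2, zero_smul]
    · rw [hc1, TensorProduct.tmul_neg, TensorProduct.tmul_sum, neg_eq_zero,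
        show ∑ i, (1 : S) ⊗ₜ[R] (c i • m i) = ∑ i, (c i * f i ^ L) • x from
          Finset.sum_congr rfl fun i _ => by rw [TensorProduct.tmul_smul, ← hx, mul_smul],
        ← Finset.sum_smul, hc2, zero_smul]
  let Φ : (M × R) ⧸ Rel →ₗ[R] (Fin t → (M × R) ⧸ Rel) := LinearMap.pi fun i => f i ^ L • LinearMap.id
  let θ : S ⊗[R] ((M × R) ⧸ Rel) := (1 : S) ⊗ₜ[R] ε - ι.lTensor S x
  have hproj : ∀ (w : S ⊗[R] (Fin t → (M × R) ⧸ Rel)) (i : Fin t),
      TensorProduct.piRight R R S (fun _ : Fin t => (M × R) ⧸ Rel) w i =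
        (LinearMap.proj i).lTensor S w := by
    intro w i
    induction w using TensorProduct.induction_on with
    | zero => simp
    | tmul s v => simp
    | add a b ha hb => rw [map_add, Pi.add_apply, map_add, ha, hb]
  have hθ : Φ.lTensor S θ = 0 := by
    apply (TensorProduct.piRight R R S (fun _ : Fin t => (M × R) ⧸ Rel)).injective
    ext i
    rw [hproj, ← LinearMap.lTensor_comp_apply, map_zero, Pi.zero_apply,
      show (LinearMap.proj i).comp Φ = f i ^ L • LinearMap.id from LinearMap.ext fun _ => rfl,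
      LinearMap.lTensor_smul, LinearMap.lTensor_id, LinearMap.smul_apply, LinearMap.id_apply]
    show f i ^ L • ((1 : S) ⊗ₜ[R] ε - ι.lTensor S x) = 0
    rw [smul_sub, ← map_smul, hx, LinearMap.lTensor_tmul, ← TensorProduct.tmul_smul, hε, sub_self]
  obtain ⟨w, hw⟩ := (Module.Flat.lTensor_exact S (LinearMap.exact_subtype_ker_map Φ) _).mp hθ
  have htors : ∀ y : LinearMap.ker Φ, IsITors I y := fun y =>
    isITors_of_forall_smul_eq_zero I y f hI fun i => ⟨L, Subtype.ext (congrFun (LinearMap.mem_ker.mp y.2) i)⟩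
  obtain ⟨t₀, rfl⟩ := (bijective_of_isITors I hq _ htors).2 w
  rw [LinearMap.lTensor_tmul, Submodule.subtype_apply] at hw
  have h1 : (1 : S) ⊗ₜ[R] (ε - (t₀ : (M × R) ⧸ Rel)) = ι.lTensor S x := by
    rw [TensorProduct.tmul_sub, hw]
    show (1 : S) ⊗ₜ[R] ε - ((1 : S) ⊗ₜ[R] ε - ι.lTensor S x) = _
    rw [sub_sub_cancel]
  let J : Ideal R := Ideal.span (Set.range fun i => f i ^ L)
  let pr : (M × R) ⧸ Rel →ₗ[R] R ⧸ J := Submodule.liftQ Rel
    (J.mkQ.comp (LinearMap.snd R M R)) (Submodule.span_le.mpr (by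
      rintro _ ⟨i, rfl⟩
      exact (Submodule.Quotient.mk_eq_zero _).mpr (Ideal.subset_span ⟨i, rfl⟩)))
  have hprι : pr.comp ι = 0 := LinearMap.ext fun a => by simp [pr, ι]
  have h2 : pr (ε - (t₀ : (M × R) ⧸ Rel)) = 0 := by
    have hJ : ∀ q : R ⧸ J, IsITors I q := fun q => isITors_of_forall_smul_eq_zero I q f hI fun i =>
      ⟨L, by
        obtain ⟨q, rfl⟩ := Submodule.Quotient.mk_surjective _ q
        rw [← Submodule.Quotient.mk_smul, Submodule.Quotient.mk_eq_zero]
        exact Ideal.mul_mem_right _ _ (Ideal.subset_span ⟨i, rfl⟩)⟩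
    apply (bijective_of_isITors I hq _ hJ).1
    show (1 : S) ⊗ₜ[R] pr (ε - (t₀ : (M × R) ⧸ Rel)) = (1 : S) ⊗ₜ[R] (0 : R ⧸ J)
    rw [← LinearMap.lTensor_tmul, h1, ← LinearMap.lTensor_comp_apply, hprι, LinearMap.lTensor_zero,
      LinearMap.zero_apply, TensorProduct.tmul_zero]
  obtain ⟨⟨a, r⟩, har⟩ := Submodule.Quotient.mk_surjective Rel (ε - (t₀ : (M × R) ⧸ Rel))
  rw [← har] at h2
  have hr : r ∈ J := (Submodule.Quotient.mk_eq_zero _).mp h2
  obtain ⟨c, hc⟩ := (Submodule.mem_span_range_iff_exists_fun R).mp hr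
  refine ⟨a + ∑ i, c i • m i, ?_, fun i => hι ?_⟩
  all_goals
    have h3 : ι (a + ∑ i, c i • m i) = ε - (t₀ : (M × R) ⧸ Rel) := by
      rw [← har]
      show Rel.mkQ (a + ∑ i, c i • m i, 0) = Rel.mkQ (a, r)
      rw [Submodule.mkQ_apply, Submodule.mkQ_apply, Submodule.Quotient.eq]
      have h4 : (a + ∑ i, c i • m i, (0 : R)) - (a, r) = ∑ i, (-c i) • (-m i, f i ^ L) := by
        refine Prod.ext ?_ ?_
        · simp [Prod.fst_sum]
        · simp [Prod.snd_sum, ← hc]
      rw [h4]
      exact Submodule.sum_mem _ fun i _ => Submodule.smul_mem _ _ (Submodule.subset_span ⟨i, rfl⟩)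
  · apply Module.Flat.lTensor_preserves_injective_linearMap (M := S) ι hι
    rw [LinearMap.lTensor_tmul, h3, h1]
  · rw [map_smul, h3, smul_sub, hε, show f i ^ L • (t₀ : (M × R) ⧸ Rel) = 0 from
      congrFun (LinearMap.mem_ker.mp t₀.2) i, sub_zero]

/-- Flat glueing of maps. -/
theorem exists_glue_map (N : Type u) [AddCommGroup N] [Module R N] (M' : Type u) [AddCommGroup M']
    [Module S M'] (φ : M' →ₗ[S] S ⊗[R] N)
    (hker : ∀ x : M', φ x = 0 → ∃ n : ℕ, ∀ a ∈ I ^ n, algebraMap R S a • x = 0)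
    (hcoker : ∀ y : S ⊗[R] N, ∃ n : ℕ, ∀ a ∈ I ^ n, algebraMap R S a • y ∈ LinearMap.range φ) :
    ∃ (M : Type u) (_ : AddCommGroup M) (_ : Module R M) (ψ : M →ₗ[R] N) (e : S ⊗[R] M ≃ₗ[S] M'),
      φ ∘ₗ e.toLinearMap = ψ.baseChange S := by
  letI : Module R M' := Module.compHom M' (algebraMap R S)
  haveI : IsScalarTower R S M' := IsScalarTower.of_algebraMap_smul fun _ _ => rfl
  let C := (S ⊗[R] N) ⧸ LinearMap.range φ
  let δ : N →ₗ[R] C := ((LinearMap.range φ).mkQ.restrictScalars R).comp (TensorProduct.mk R S N 1)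
  have hC : ∀ q : C, IsITors I q := fun q => by
    obtain ⟨y, rfl⟩ := Submodule.Quotient.mk_surjective _ q
    obtain ⟨n, hn⟩ := hcoker y
    refine ⟨n, fun a ha => ?_⟩
    rw [← algebraMap_smul S a (Submodule.Quotient.mk y : C), ← Submodule.Quotient.mk_smul,
      Submodule.Quotient.mk_eq_zero]
    exact hn a ha
  let μC : S ⊗[R] C →ₗ[S] C := (LinearMap.id : C →ₗ[R] C).liftBaseChange S
  have hμC : Function.Injective μC := by
    have h := bijective_of_isITors (S := S) I hq C hC
    intro a b hab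
    obtain ⟨a, rfl⟩ := h.2 a
    obtain ⟨b, rfl⟩ := h.2 b
    simp [μC] at hab
    rw [hab]
  let K := LinearMap.ker φ
  have hK : ∀ k : K, IsITors I k := fun k => by
    obtain ⟨n, hn⟩ := hker k k.2
    exact ⟨n, fun a ha => Subtype.ext (hn a ha)⟩
  let Φ₁ : M' × N →ₗ[R] S ⊗[R] N := (φ.restrictScalars R).comp (LinearMap.fst R M' N)
  let Φ₂ : M' × N →ₗ[R] S ⊗[R] N := (TensorProduct.mk R S N 1).comp (LinearMap.snd R M' N)
  let M := ↥(LinearMap.eqLocus Φ₁ Φ₂)
  let p : M →ₗ[R] M' := (LinearMap.fst R M' N).comp (LinearMap.eqLocus Φ₁ Φ₂).subtype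
  let ψ : M →ₗ[R] N := (LinearMap.snd R M' N).comp (LinearMap.eqLocus Φ₁ Φ₂).subtype
  let P : S ⊗[R] M →ₗ[S] M' := p.liftBaseChange S
  have hφP : ∀ w, φ (P w) = ψ.lTensor S w := by
    intro w
    induction w using TensorProduct.induction_on with
    | zero => simp
    | tmul a m =>
      show φ (P (a ⊗ₜ[R] m)) = a ⊗ₜ[R] ψ m
      rw [show P (a ⊗ₜ[R] m) = a • p m by simp [P], map_smul,
        show φ (p m) = (1 : S) ⊗ₜ[R] ψ m from m.2, smul_tmul', smul_eq_mul, mul_one]
    | add x y hx hy => simp only [map_add, hx, hy]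
  have hsurj : Function.Surjective P := by
    intro x
    have h1 : δ.lTensor S (φ x) = 0 := by
      apply hμC
      have h2 : ∀ z : S ⊗[R] N, μC (δ.lTensor S z) = (LinearMap.range φ).mkQ z := by
        intro z
        induction z using TensorProduct.induction_on with
        | zero => simp
        | tmul s n =>
          show μC (s ⊗ₜ[R] δ n) = _
          rw [show μC (s ⊗ₜ[R] δ n) = s • δ n by simp [μC],
            show δ n = (LinearMap.range φ).mkQ ((1 : S) ⊗ₜ[R] n) from rfl, ← map_smul, smul_tmul',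
            smul_eq_mul, mul_one]
        | add a b ha hb => simp only [map_add, ha, hb]
      rw [h2, map_zero, Submodule.mkQ_apply, Submodule.Quotient.mk_eq_zero]
      exact ⟨x, rfl⟩
    obtain ⟨w, hw⟩ := (Module.Flat.lTensor_exact S (LinearMap.exact_subtype_ker_map δ) _).mp h1
    have hlift : ∀ n : LinearMap.ker δ, ∃ m : M, ψ m = n := fun n => by
      obtain ⟨y, hy⟩ := (Submodule.Quotient.mk_eq_zero _).mp (LinearMap.mem_ker.mp n.2)
      exact ⟨⟨(y, n), hy⟩, rfl⟩
    have hwlift : ∀ w : S ⊗[R] LinearMap.ker δ, ∃ z : S ⊗[R] M,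
        ψ.lTensor S z = (LinearMap.ker δ).subtype.lTensor S w := by
      intro w
      induction w using TensorProduct.induction_on with
      | zero => exact ⟨0, by simp⟩
      | tmul s n =>
        obtain ⟨m, hm⟩ := hlift n
        exact ⟨s ⊗ₜ[R] m, by simp [hm]⟩
      | add a b ha hb =>
        obtain ⟨z₁, h₁⟩ := ha
        obtain ⟨z₂, h₂⟩ := hb
        exact ⟨z₁ + z₂, by rw [map_add, map_add, h₁, h₂]⟩
    obtain ⟨z, hz⟩ := hwlift w
    have hk : φ (x - P z) = 0 := by rw [map_sub, hφP, hz, hw, sub_self]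
    refine ⟨(1 : S) ⊗ₜ[R] (⟨(x - P z, 0), by
      show φ (x - P z) = (1 : S) ⊗ₜ[R] (0 : N)
      rw [hk, TensorProduct.tmul_zero]⟩ : M) + z, ?_⟩
    rw [map_add]
    simp only [P, LinearMap.liftBaseChange_tmul, one_smul]
    exact sub_add_cancel x (P z)
  have hinj : Function.Injective P := by
    rw [injective_iff_map_eq_zero]
    intro z hz
    let j : K →ₗ[R] M :=
      { toFun := fun k => ⟨((k : M'), 0), by
          show φ (k : M') = (1 : S) ⊗ₜ[R] (0 : N)
          rw [LinearMap.mem_ker.mp k.2, TensorProduct.tmul_zero]⟩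
        map_add' := fun a b => Subtype.ext (Prod.ext rfl (add_zero _).symm)
        map_smul' := fun r a => Subtype.ext (Prod.ext rfl (smul_zero _).symm) }
    have hex : Function.Exact j ψ := by
      intro m
      constructor
      · intro hm
        have hm' : φ m.1.1 = (1 : S) ⊗ₜ[R] ψ m := m.2
        rw [hm, TensorProduct.tmul_zero] at hm'
        exact ⟨⟨m.1.1, hm'⟩, Subtype.ext (Prod.ext rfl hm.symm)⟩
      · rintro ⟨k, rfl⟩; rfl
    obtain ⟨w, rfl⟩ := (Module.Flat.lTensor_exact S hex z).mp (by rw [← hφP, hz, map_zero])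
    obtain ⟨k, rfl⟩ := (bijective_of_isITors (S := S) I hq K hK).2 w
    have h1 : (k : M') = 0 := by
      rw [LinearMap.lTensor_tmul] at hz
      simp only [P, LinearMap.liftBaseChange_tmul, one_smul] at hz
      exact hz
    rw [show k = 0 from Subtype.ext h1]
    simp
  exact ⟨M, inferInstance, inferInstance, ψ, LinearEquiv.ofBijective P ⟨hinj, hsurj⟩,
    TensorProduct.AlgebraTensorModule.ext fun a m => hφP (a ⊗ₜ[R] m)⟩

/-- Exactness of the glueing complex. -/
theorem glueing_complex_exact {t : ℕ} (f : Fin t → R) (hI : Ideal.span (Set.range f) = I)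
    (M : Type u) [AddCommGroup M] [Module R M] :
    (∀ m : M, (1 : S) ⊗ₜ[R] m = 0 →
        (∀ i : Fin t, LocalizedModule.mkLinearMap (Submonoid.powers (f i)) M m = 0) → m = 0) ∧
    ∀ (x : S ⊗[R] M) (N : ℕ) (m : Fin t → M),
      (∀ i : Fin t, EtGlue.locOfTensor R S (f i) M x =
          EtGlue.tensorOfLoc R S (f i) M (LocalizedModule.mk (m i) ⟨f i ^ N, Submonoid.pow_mem _ (Submonoid.mem_powers (f i)) N⟩)) →
      (∀ i j : Fin t, ∃ e : ℕ, (f i * f j) ^ e • (f j ^ N • m i - f i ^ N • m j) = 0) →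
        ∃ μ : M, (1 : S) ⊗ₜ[R] μ = x ∧
          ∀ i : Fin t, LocalizedModule.mkLinearMap (Submonoid.powers (f i)) M μ =
            LocalizedModule.mk (m i) ⟨f i ^ N, Submonoid.pow_mem _ (Submonoid.mem_powers (f i)) N⟩ := by
  constructor
  · intro m hm hloc
    refine eq_zero_of_isITors I hq (isITors_of_forall_smul_eq_zero I m f hI fun i => ?_) hm
    obtain ⟨⟨_, n, rfl⟩, hn⟩ := (IsLocalizedModule.eq_zero_iff (Submonoid.powers (f i))
      (LocalizedModule.mkLinearMap (Submonoid.powers (f i)) M)).mp (hloc i)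
    exact ⟨n, hn⟩
  · intro x N m hx hm
    have hk : ∀ i, ∃ k : ℕ, f i ^ (N + k) • x = f i ^ k • ((1 : S) ⊗ₜ[R] m i) := by
      intro i
      have hy : f i ^ N • (LocalizedModule.mk (m i)
          ⟨f i ^ N, Submonoid.pow_mem _ (Submonoid.mem_powers (f i)) N⟩ :
            LocalizedModule (Submonoid.powers (f i)) M) =
          LocalizedModule.mkLinearMap (Submonoid.powers (f i)) M (m i) := by
        rw [LocalizedModule.smul'_mk, LocalizedModule.mkLinearMap_apply]
        exact LocalizedModule.mk_cancel (⟨f i ^ N, Submonoid.pow_mem _ (Submonoid.mem_powers (f i)) N⟩ :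
          Submonoid.powers (f i)) (m i)
      have h1 : EtGlue.locOfTensor R S (f i) M (f i ^ N • x) =
          EtGlue.locOfTensor R S (f i) M ((1 : S) ⊗ₜ[R] m i) := by
        rw [map_smul, hx, ← map_smul, hy]
        exact IsLocalizedModule.map_apply _ _ _ _ _
      obtain ⟨⟨_, k, rfl⟩, hk⟩ := (IsLocalizedModule.eq_iff_exists (Submonoid.powers (f i)) _).mp h1
      exact ⟨k, by rw [pow_add, mul_comm, mul_smul]; exact hk⟩
    choose k hk using hk
    choose e he using hm
    let K := Finset.univ.sup k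
    let E := Finset.univ.sup fun p : Fin t × Fin t => e p.1 p.2
    have hk' : ∀ i, f i ^ (N + (K + E)) • x = (1 : S) ⊗ₜ[R] (f i ^ (K + E) • m i) := fun i => by
      obtain ⟨d, hd⟩ := Nat.exists_eq_add_of_le
        ((Finset.le_sup (Finset.mem_univ i)).trans (Nat.le_add_right K E) : k i ≤ K + E)
      rw [hd, TensorProduct.tmul_smul, show N + (k i + d) = d + (N + k i) by ring, pow_add, mul_smul,
        hk, ← mul_smul, ← pow_add, add_comm d]
    have hm' : ∀ i j, f j ^ (N + (K + E)) • f i ^ (K + E) • m i =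
        f i ^ (N + (K + E)) • f j ^ (K + E) • m j := fun i j => by
      obtain ⟨d, hd⟩ := Nat.exists_eq_add_of_le
        ((Finset.le_sup (f := fun p : Fin t × Fin t => e p.1 p.2) (Finset.mem_univ (i, j))).trans
          (Nat.le_add_left E K) : e i j ≤ K + E)
      rw [← sub_eq_zero]
      have h1 : f j ^ (N + (K + E)) • f i ^ (K + E) • m i -
          f i ^ (N + (K + E)) • f j ^ (K + E) • m j =
          (f i * f j) ^ d • ((f i * f j) ^ e i j • (f j ^ N • m i - f i ^ N • m j)) := by
        rw [hd]; module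
      rw [h1, he, smul_zero]
    obtain ⟨μ, hμ, hμ'⟩ := exists_strict_glue I hq f hI (N + (K + E)) x _ hk' hm'
    refine ⟨μ, hμ, fun i => ?_⟩
    rw [LocalizedModule.mkLinearMap_apply, LocalizedModule.mk_eq]
    refine ⟨⟨f i ^ (K + E), K + E, rfl⟩, ?_⟩
    simp only [Submonoid.smul_def, OneMemClass.coe_one, one_smul]
    rw [← mul_smul, ← pow_add, add_comm, hμ']

end Groth.L05.GlueFlat
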