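import Groth.Agent.L05.Glue.Torsion
import Mathlib.RingTheory.Localization.Algebra

/-!
# Glueing modules and algebras along a glueing pair
-/

universe u

open TensorProduct

namespace Groth.L05.Glue

open EtGlue

variable {R R' : Type u} [CommRing R] [CommRing R'] [Algebra R R'] {f : R}

theorem smul_tmul_eq {M : Type u} [AddCommGroup M] [Module R M] (r : R) (m : M) :
    (1 : R') ⊗ₜ[R] (r • m) = algebraMap R R' r • ((1 : R') ⊗ₜ[R] m) := by
  rw [algebraMap_smul, TensorProduct.tmul_smul]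

/-- The module glued from `M'`, `M₁` and a comparison `β` has the expected base changes. -/
theorem glued (h : IsGlueingPair R R' f)
    {M M' M₁ : Type u} [AddCommGroup M] [Module R M] [AddCommGroup M'] [Module R M'] [Module R' M']
    [IsScalarTower R R' M'] [AddCommGroup M₁] [Module R M₁]
    (p : M →ₗ[R] M') (q : M →ₗ[R] M₁) (β : M' →ₗ[R'] R' ⊗[R] M₁)
    (hf : Function.Bijective fun x : M₁ => f • x)
    (hker : ∀ x, β x = 0 → IsTors f x)
    (hrange : ∀ z, ∃ (n : ℕ) (x : M'), β x = f ^ n • z)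
    (hcompat : ∀ m, β (p m) = (1 : R') ⊗ₜ[R] q m)
    (hlift : ∀ x y, β x = (1 : R') ⊗ₜ[R] y → ∃ m, p m = x ∧ q m = y)
    (hinj : ∀ m, p m = 0 → q m = 0 → m = 0) :
    IsLocalizedModule (Submonoid.powers f) q ∧ Function.Bijective (p.liftBaseChange R') ∧
      IsGlueable R R' f M := by
  have hfn : ∀ n : ℕ, Function.Bijective fun x : M₁ => f ^ n • x := fun n => by
    induction n with
    | zero =>
      simp only [pow_zero, one_smul]
      exact Function.bijective_id
    | succ n ih =>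
      have : (fun x : M₁ => f ^ (n + 1) • x) = (fun x => f ^ n • x) ∘ fun x => f • x :=
        funext fun x => by simp [pow_succ, mul_smul]
      rw [this]; exact ih.comp hf
  have htors₁ : ∀ y : M₁, IsTors f y → y = 0 := fun y ⟨n, hn⟩ =>
    (hfn n).1 (hn.trans (smul_zero _).symm)
  have hβR : ∀ (r : R) x, β (r • x) = r • β x := fun r x => β.map_smul_of_tower r x
  have hloc : IsLocalizedModule (Submonoid.powers f) q := by
    refine ⟨?_, fun y => ?_, fun {a b} hab => ?_⟩
    · rintro ⟨_, n, rfl⟩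
      exact (Module.End.isUnit_iff _).mpr (hfn n)
    · obtain ⟨n, x, hx⟩ := hrange ((1 : R') ⊗ₜ[R] y)
      obtain ⟨m, -, hm⟩ := hlift x (f ^ n • y) (by rw [hx, TensorProduct.tmul_smul])
      exact ⟨(m, ⟨f ^ n, n, rfl⟩), hm.symm⟩
    · have h1 : β (p (a - b)) = 0 := by
        rw [hcompat, map_sub, hab, sub_self, TensorProduct.tmul_zero]
      obtain ⟨k, hk⟩ := hker _ h1
      refine ⟨⟨f ^ k, k, rfl⟩, ?_⟩
      show f ^ k • a = f ^ k • b
      rw [← sub_eq_zero, ← smul_sub]
      refine hinj _ (by rw [map_smul, hk]) ?_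
      rw [map_smul, map_sub, hab, sub_self, smul_zero]
  haveI := hloc
  have hqt : ∀ m, IsTors f m → q m = 0 := fun m ⟨n, hn⟩ =>
    htors₁ _ ⟨n, by rw [← map_smul, hn, map_zero]⟩
  set P := p.liftBaseChange R' with hP
  have hPt : ∀ (a : R') (m : M), P (a ⊗ₜ[R] m) = a • p m := fun a m => by
    simp [P]
  have hβP : ∀ w, β (P w) = q.lTensor R' w := by
    intro w
    induction w using TensorProduct.induction_on with
    | zero => simp
    | tmul a m => rw [hPt, map_smul, hcompat, smul_tmul', smul_eq_mul, mul_one, LinearMap.lTensor_tmul]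
    | add x y hx hy => simp only [map_add, hx, hy]
  have hdec : ∀ z : R' ⊗[R] M₁, ∃ (y : M₁) (w : R' ⊗[R] M),
      z = (1 : R') ⊗ₜ[R] y + q.lTensor R' w := by
    intro z
    induction z using TensorProduct.induction_on with
    | zero => exact ⟨0, 0, by simp⟩
    | tmul a y =>
      obtain ⟨⟨m, ⟨_, n, rfl⟩⟩, hm⟩ := IsLocalizedModule.surj (Submonoid.powers f) q y
      obtain ⟨r, b, rfl⟩ := exists_eq_add_pow_mul h.1 n a
      refine ⟨r • y, b ⊗ₜ[R] m, ?_⟩
      simp only [Submonoid.smul_def] at hm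
      rw [LinearMap.lTensor_tmul, ← hm, TensorProduct.add_tmul, Algebra.algebraMap_eq_smul_one, smul_tmul,
        ← map_pow, ← Algebra.smul_def, smul_tmul]
    | add x y hx hy =>
      obtain ⟨y₁, w₁, rfl⟩ := hx
      obtain ⟨y₂, w₂, rfl⟩ := hy
      exact ⟨y₁ + y₂, w₁ + w₂, by rw [TensorProduct.tmul_add, map_add]; abel⟩
  have hcomm : ∀ w, q.rTensor R' (TensorProduct.comm R R' M w) =
      TensorProduct.comm R R' M₁ (q.lTensor R' w) := by
    intro w
    induction w using TensorProduct.induction_on with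
    | zero => simp
    | tmul a m => simp
    | add x y hx hy => simp only [map_add, hx, hy]
  refine ⟨hloc, ⟨?_, fun x => ?_⟩, ?_⟩
  · rw [injective_iff_map_eq_zero]
    intro z hz
    have h1 : q.rTensor R' (TensorProduct.comm R R' M z) = 0 := by
      rw [hcomm, ← hβP, hz, map_zero, map_zero]
    haveI : IsLocalizedModule (Submonoid.powers f) (q.rTensor R') :=
      IsLocalizedModule.rTensor (R := R) (A := R) (N := R') (Submonoid.powers f) q
    obtain ⟨⟨_, n, rfl⟩, hn⟩ := (IsLocalizedModule.eq_zero_iff (Submonoid.powers f)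
      (q.rTensor R')).mp h1
    obtain ⟨t, ht, rfl⟩ := surjTors_of_isGlueingPair h M z ⟨n, by
      apply (TensorProduct.comm R R' M).injective
      rw [map_smul, map_zero]; exact hn⟩
    rw [TensorProduct.mk_apply, hPt, one_smul] at hz
    rw [hinj t hz (hqt t ht), map_zero]
  · obtain ⟨y, w, hyw⟩ := hdec (β x)
    obtain ⟨m, hm, -⟩ := hlift (x - P w) y (by rw [map_sub, hβP, hyw]; abel)
    exact ⟨(1 : R') ⊗ₜ[R] m + w, by rw [map_add, hPt, one_smul, hm, sub_add_cancel]⟩
  · rw [isGlueable_iff_injTors h]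
    intro t ht h0
    refine hinj t ?_ (hqt t ht)
    have h1 := congrArg P h0
    rwa [TensorProduct.mk_apply, hPt, one_smul, map_zero] at h1

/-- Homomorphisms glue. -/
theorem existsUnique_hom {M N : Type u} [AddCommGroup M] [Module R M] [AddCommGroup N]
    [Module R N] (hN : IsGlueable R R' f N) (φ' : R' ⊗[R] M →ₗ[R'] R' ⊗[R] N)
    (φ₁ : LocalizedModule (Submonoid.powers f) M →ₗ[R] LocalizedModule (Submonoid.powers f) N)
    (hc : ∀ m : M, locOfTensor R R' f N (φ' ((1 : R') ⊗ₜ[R] m)) =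
      tensorOfLoc R R' f N (φ₁ (LocalizedModule.mkLinearMap (Submonoid.powers f) M m))) :
    ∃! ψ : M →ₗ[R] N, ψ.baseChange R' = φ' ∧
      IsLocalizedModule.map (Submonoid.powers f) (LocalizedModule.mkLinearMap (Submonoid.powers f) M)
        (LocalizedModule.mkLinearMap (Submonoid.powers f) N) ψ = φ₁ := by
  choose ψ h₁ h₂ using fun m => hN.2 _ _ (hc m)
  let Ψ : M →ₗ[R] N :=
    { toFun := ψ
      map_add' := fun a b => hN.1 (Prod.ext
        (by simp only [h₁, TensorProduct.tmul_add, map_add])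
        (by simp only [h₂, map_add]))
      map_smul' := fun r a => hN.1 (Prod.ext
        (by simp only [h₁, TensorProduct.tmul_smul, RingHom.id_apply, LinearMap.map_smul_of_tower])
        (by simp only [h₂, map_smul, RingHom.id_apply])) }
  refine ⟨Ψ, ⟨?_, ?_⟩, fun χ hχ => ?_⟩
  · refine TensorProduct.AlgebraTensorModule.ext fun a m => ?_
    rw [LinearMap.baseChange_tmul, show a ⊗ₜ[R] m = a • ((1 : R') ⊗ₜ[R] m) by
      rw [smul_tmul', smul_eq_mul, mul_one], map_smul, ← h₁, smul_tmul', smul_eq_mul, mul_one]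
    rfl
  · refine IsLocalizedModule.linearMap_ext (Submonoid.powers f)
      (LocalizedModule.mkLinearMap (Submonoid.powers f) M)
      (LocalizedModule.mkLinearMap (Submonoid.powers f) N) (LinearMap.ext fun m => ?_)
    rw [LinearMap.comp_apply, IsLocalizedModule.map_apply]
    exact h₂ m
  · refine LinearMap.ext fun m => hN.1 (Prod.ext ?_ ?_)
    · show (1 : R') ⊗ₜ[R] χ m = (1 : R') ⊗ₜ[R] ψ m
      rw [h₁, ← hχ.1, LinearMap.baseChange_tmul]
    · show LocalizedModule.mkLinearMap (Submonoid.powers f) N (χ m) =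
        LocalizedModule.mkLinearMap (Submonoid.powers f) N (ψ m)
      rw [h₂, ← hχ.2, IsLocalizedModule.map_apply]

/-- Beauville–Laszlo glueing of modules. -/
theorem exists_glued_module (h : IsGlueingPair R R' f) (M' : Type u) [AddCommGroup M']
    [Module R' M'] (M₁ : Type u) [AddCommGroup M₁] [Module R M₁]
    (hf : Function.Bijective fun x : M₁ => f • x)
    (α : LocalizedModule (Submonoid.powers (algebraMap R R' f)) M' ≃ₗ[R'] R' ⊗[R] M₁) :
    ∃ (M : Type u) (_ : AddCommGroup M) (_ : Module R M) (_ : EtGlue.IsGlueable R R' f M)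
      (e' : R' ⊗[R] M ≃ₗ[R'] M') (e₁ : LocalizedModule (Submonoid.powers f) M ≃ₗ[R] M₁),
      ∀ m : M, α (LocalizedModule.mkLinearMap (Submonoid.powers (algebraMap R R' f)) M'
        (e' ((1 : R') ⊗ₜ[R] m))) =
          (1 : R') ⊗ₜ[R] e₁ (LocalizedModule.mkLinearMap (Submonoid.powers f) M m) := by
  letI : Module R M' := Module.compHom M' (algebraMap R R')
  haveI : IsScalarTower R R' M' := IsScalarTower.of_algebraMap_smul fun _ _ => rfl
  set ℓ := LocalizedModule.mkLinearMap (Submonoid.powers (algebraMap R R' f)) M' with hℓ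
  let β : M' →ₗ[R'] R' ⊗[R] M₁ := α.toLinearMap.comp ℓ
  let Φ₁ : M' × M₁ →ₗ[R] R' ⊗[R] M₁ :=
    (β.restrictScalars R).comp (LinearMap.fst R M' M₁)
  let Φ₂ : M' × M₁ →ₗ[R] R' ⊗[R] M₁ :=
    (TensorProduct.mk R R' M₁ 1).comp (LinearMap.snd R M' M₁)
  let M := ↥(LinearMap.eqLocus Φ₁ Φ₂)
  let p : M →ₗ[R] M' := (LinearMap.fst R M' M₁).comp (LinearMap.eqLocus Φ₁ Φ₂).subtype
  let q : M →ₗ[R] M₁ := (LinearMap.snd R M' M₁).comp (LinearMap.eqLocus Φ₁ Φ₂).subtype
  obtain ⟨hloc, hbij, hgl⟩ := glued (M := M) h p q β hf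
    (fun x hx => by
      obtain ⟨⟨_, n, rfl⟩, hn⟩ := (IsLocalizedModule.eq_zero_iff
        (Submonoid.powers (algebraMap R R' f)) ℓ).mp (α.injective (hx.trans (map_zero α).symm))
      exact ⟨n, by rw [← algebraMap_smul R', map_pow]; exact hn⟩)
    (fun z => by
      obtain ⟨⟨x, ⟨_, n, rfl⟩⟩, hx⟩ := IsLocalizedModule.surj
        (Submonoid.powers (algebraMap R R' f)) ℓ (α.symm z)
      refine ⟨n, x, ?_⟩
      show α (ℓ x) = _
      rw [← algebraMap_smul R', map_pow, ← α.apply_symm_apply z, ← map_smul]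
      exact congrArg α hx.symm)
    (fun m => m.2) (fun x y hxy => ⟨⟨(x, y), hxy⟩, rfl, rfl⟩)
    (fun m h1 h2 => Subtype.ext (Prod.ext h1 h2))
  haveI := hloc
  refine ⟨M, inferInstance, inferInstance, hgl, LinearEquiv.ofBijective _ hbij,
    IsLocalizedModule.iso (Submonoid.powers f) q, fun m => ?_⟩
  rw [LinearEquiv.ofBijective_apply, LinearMap.liftBaseChange_tmul, one_smul]
  simp only [LocalizedModule.mkLinearMap_apply, IsLocalizedModule.iso_mk_one]
  exact m.2

/-- Glueing of algebras. -/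
theorem exists_glued_algebra (h : IsGlueingPair R R' f) (A₁ : Type u) [CommRing A₁] [Algebra R A₁]
    (h₁ : IsUnit (algebraMap R A₁ f)) (A' : Type u) [CommRing A'] [Algebra R A'] [Algebra R' A']
    [IsScalarTower R R' A']
    (φ : Localization.Away (algebraMap R A' f) ≃ₐ[R'] R' ⊗[R] A₁) :
    ∃ (A : Type u) (_ : CommRing A) (_ : Algebra R A) (_ : EtGlue.IsGlueable R R' f A)
      (e₁ : Localization.Away (algebraMap R A f) ≃ₐ[R] A₁) (e' : R' ⊗[R] A ≃ₐ[R'] A'),
      ∀ a : A, φ (algebraMap A' (Localization.Away (algebraMap R A' f)) (e' ((1 : R') ⊗ₜ[R] a))) =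
        (1 : R') ⊗ₜ[R] e₁ (algebraMap A (Localization.Away (algebraMap R A f)) a) := by
  set L := Localization.Away (algebraMap R A' f)
  let β : A' →ₐ[R'] R' ⊗[R] A₁ := φ.toAlgHom.comp (IsScalarTower.toAlgHom R' A' L)
  let Φ₁ : A' × A₁ →ₐ[R] R' ⊗[R] A₁ := (β.restrictScalars R).comp (AlgHom.fst R A' A₁)
  let Φ₂ : A' × A₁ →ₐ[R] R' ⊗[R] A₁ :=
    Algebra.TensorProduct.includeRight.comp (AlgHom.snd R A' A₁)
  let A := ↥(AlgHom.equalizer Φ₁ Φ₂)
  let p : A →ₐ[R] A' := (AlgHom.fst R A' A₁).comp (AlgHom.equalizer Φ₁ Φ₂).val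
  let q : A →ₐ[R] A₁ := (AlgHom.snd R A' A₁).comp (AlgHom.equalizer Φ₁ Φ₂).val
  obtain ⟨hloc, hbij, hgl⟩ := glued (M := A) h p.toLinearMap q.toLinearMap β.toLinearMap
    ⟨fun a b hab => h₁.mul_left_cancel (by simpa [Algebra.smul_def] using hab), fun b =>
      ⟨(↑h₁.unit⁻¹ : A₁) * b, by
        show f • ((↑h₁.unit⁻¹ : A₁) * b) = b
        rw [Algebra.smul_def, ← mul_assoc, IsUnit.mul_val_inv, one_mul]⟩⟩
    (fun x hx => by
      obtain ⟨⟨_, n, rfl⟩, hn⟩ := (IsLocalization.map_eq_zero_iff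
        (Submonoid.powers (algebraMap R A' f)) L _).mp (φ.injective (hx.trans (map_zero φ).symm))
      exact ⟨n, by rw [Algebra.smul_def, map_pow]; exact hn⟩)
    (fun z => by
      obtain ⟨⟨x, ⟨_, n, rfl⟩⟩, hx⟩ := IsLocalization.surj
        (Submonoid.powers (algebraMap R A' f)) (φ.symm z)
      refine ⟨n, x, ?_⟩
      show φ (algebraMap A' L x) = _
      simp only at hx
      have hc : φ (algebraMap A' L (algebraMap R A' f ^ n)) =
          algebraMap R (R' ⊗[R] A₁) (f ^ n) := by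
        rw [← map_pow (algebraMap R A'), IsScalarTower.algebraMap_apply R R' (R' ⊗[R] A₁),
          ← φ.commutes, IsScalarTower.algebraMap_apply R' A' L]
        exact congrArg (fun a => φ (algebraMap A' L a))
          (IsScalarTower.algebraMap_apply R R' A' (f ^ n))
      rw [← hx, map_mul, φ.apply_symm_apply, hc, mul_comm, ← Algebra.smul_def])
    (fun m => m.2) (fun x y hxy => ⟨⟨(x, y), hxy⟩, rfl, rfl⟩)
    (fun m h1 h2 => Subtype.ext (Prod.ext h1 h2))
  letI : Algebra A A₁ := q.toRingHom.toAlgebra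
  haveI : IsScalarTower R A A₁ := IsScalarTower.of_algebraMap_eq fun r => (q.commutes r).symm
  haveI hloc' : IsLocalization.Away (algebraMap R A f) A₁ := by
    haveI := hloc
    refine
      { map_units := ?_
        surj := fun z => ?_
        exists_of_eq := fun {a b} hab => ?_ }
    · rintro ⟨_, n, rfl⟩
      show IsUnit (q (algebraMap R A f ^ n))
      rw [map_pow, AlgHom.commutes]
      exact h₁.pow n
    · obtain ⟨⟨m, ⟨_, n, rfl⟩⟩, hm⟩ := IsLocalizedModule.surj (Submonoid.powers f) q.toLinearMap z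
      refine ⟨(m, ⟨algebraMap R A f ^ n, n, rfl⟩), ?_⟩
      show z * q (algebraMap R A f ^ n) = q m
      simp only [Submonoid.smul_def, AlgHom.toLinearMap_apply] at hm
      rw [← hm, map_pow, AlgHom.commutes, ← map_pow, Algebra.smul_def, mul_comm]
    · obtain ⟨⟨_, n, rfl⟩, hn⟩ := IsLocalizedModule.exists_of_eq (S := Submonoid.powers f)
        (f := q.toLinearMap) hab
      refine ⟨⟨algebraMap R A f ^ n, n, rfl⟩, ?_⟩
      simpa [Submonoid.smul_def, Algebra.smul_def] using hn
  let P : R' ⊗[R] A →ₐ[R'] A' :=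
    Algebra.TensorProduct.lift (Algebra.ofId R' A') p (fun _ _ => Commute.all _ _)
  have hP : ⇑P = ⇑(p.toLinearMap.liftBaseChange R') := by
    refine congrArg DFunLike.coe (show P.toLinearMap = p.toLinearMap.liftBaseChange R' from
      TensorProduct.AlgebraTensorModule.ext fun a m => ?_)
    simp [P, LinearMap.liftBaseChange_tmul, Algebra.smul_def, Algebra.ofId_apply]
  refine ⟨A, inferInstance, inferInstance, hgl,
    (IsLocalization.algEquiv (Submonoid.powers (algebraMap R A f))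
      (Localization.Away (algebraMap R A f)) A₁).restrictScalars R,
    AlgEquiv.ofBijective P (hP ▸ hbij), fun a => ?_⟩
  rw [AlgEquiv.restrictScalars_apply, AlgEquiv.commutes, AlgEquiv.ofBijective_apply]
  rw [show P ((1 : R') ⊗ₜ[R] a) = p a by simp [P]]
  exact a.2

end Groth.L05.Glue
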