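import Groth.Prelude.Def_EtGlue
import Mathlib.RingTheory.Localization.BaseChange
import Mathlib.LinearAlgebra.TensorProduct.Quotient
import Mathlib.LinearAlgebra.TensorProduct.RightExactness
import Mathlib.Tactic.LinearCombination
import Mathlib.Tactic.Module

/-!
# Glueing pairs: element level criteria
-/

universe u

open TensorProduct

namespace Groth.L05.Glue

open EtGlue

variable {R R' : Type u} [CommRing R] [CommRing R'] [Algebra R R'] {f : R}

/-- `m` is killed by a power of `f`. -/
def IsTors (f : R) {M : Type*} [AddCommGroup M] [Module R M] (m : M) : Prop :=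
  ∃ n : ℕ, f ^ n • m = 0

/-- `f ^ n` as an element of the submonoid of powers. -/
def pw {A : Type*} [CommRing A] (g : A) (n : ℕ) : Submonoid.powers g := ⟨g ^ n, n, rfl⟩

@[simp] theorem coe_pw {A : Type*} [CommRing A] (g : A) (n : ℕ) : (pw g n : A) = g ^ n := rfl

theorem isUnit_pow {A : Type*} [CommRing A] (g : A) (n : ℕ) :
    IsUnit (algebraMap A (Localization.Away g) (g ^ n)) := IsLocalization.map_units _ (pw g n)

section Quot

variable (hq : QuotPowBijective R R' f)

include hq

theorem exists_eq_add_pow_mul (n : ℕ) (x : R') :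
    ∃ (r : R) (y : R'), x = algebraMap R R' r + algebraMap R R' f ^ n * y := by
  rcases Nat.eq_zero_or_pos n with rfl | hn
  · exact ⟨0, x, by simp⟩
  obtain ⟨r, hr⟩ := (hq n hn).2 (Ideal.Quotient.mk _ x)
  obtain ⟨r, rfl⟩ := Ideal.Quotient.mk_surjective r
  rw [Ideal.quotientMap_mk, Ideal.Quotient.eq, Ideal.map_span, Set.image_singleton,
    Ideal.mem_span_singleton] at hr
  obtain ⟨y, hy⟩ := hr
  exact ⟨r, -y, by rw [map_pow] at hy; linear_combination -hy⟩

theorem pow_dvd_of_algebraMap (n : ℕ) {r : R} {y : R'}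
    (h : algebraMap R R' r = algebraMap R R' f ^ n * y) : f ^ n ∣ r := by
  rcases Nat.eq_zero_or_pos n with rfl | hn
  · simp
  rw [← Ideal.mem_span_singleton, ← Ideal.Quotient.eq_zero_iff_mem]
  apply (hq n hn).1
  rw [Ideal.quotientMap_mk, map_zero, Ideal.Quotient.eq_zero_iff_mem, Ideal.map_span,
    Set.image_singleton, Ideal.mem_span_singleton, map_pow]
  exact ⟨y, h⟩

variable {M : Type u} [AddCommGroup M] [Module R M]

theorem exists_tmul_add_pow_smul (n : ℕ) (x : R' ⊗[R] M) :
    ∃ (m : M) (y : R' ⊗[R] M), x = (1 : R') ⊗ₜ[R] m + f ^ n • y := by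
  induction x using TensorProduct.induction_on with
  | zero => exact ⟨0, 0, by simp⟩
  | tmul a m =>
    obtain ⟨r, b, rfl⟩ := exists_eq_add_pow_mul hq n a
    refine ⟨r • m, b ⊗ₜ[R] m, ?_⟩
    rw [TensorProduct.add_tmul, Algebra.algebraMap_eq_smul_one, smul_tmul, smul_tmul', Algebra.smul_def (f ^ n),
      map_pow]
  | add x y hx hy =>
    obtain ⟨m₁, y₁, rfl⟩ := hx
    obtain ⟨m₂, y₂, rfl⟩ := hy
    exact ⟨m₁ + m₂, y₁ + y₂, by rw [TensorProduct.tmul_add, smul_add]; abel⟩

theorem pow_smul_dvd_of_tmul (n : ℕ) {m : M} {y : R' ⊗[R] M}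
    (h : (1 : R') ⊗ₜ[R] m = f ^ n • y) : ∃ m', m = f ^ n • m' := by
  rcases Nat.eq_zero_or_pos n with rfl | hn
  · exact ⟨m, by simp⟩
  let J : Ideal R := Ideal.span {f ^ n}
  let q : (R ⧸ J) →ₗ[R] R' ⧸ J.map (algebraMap R R') :=
    { toFun := Ideal.quotientMap (J.map (algebraMap R R')) (algebraMap R R') Ideal.le_comap_map
      map_add' := fun a b => map_add _ a b
      map_smul' := fun r a => by
        obtain ⟨a, rfl⟩ := Ideal.Quotient.mk_surjective a
        show Ideal.Quotient.mk (J.map (algebraMap R R')) (algebraMap R R' (r * a)) =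
          Ideal.Quotient.mk (J.map (algebraMap R R')) (r • algebraMap R R' a)
        rw [map_mul, Algebra.smul_def] }
  let π : R' →ₗ[R] R ⧸ J :=
    (LinearEquiv.ofBijective q (hq n hn)).symm.toLinearMap.comp
      (Ideal.Quotient.mkₐ R (J.map (algebraMap R R'))).toLinearMap
  have hπ : π 1 = Ideal.Quotient.mk J 1 := by
    show (LinearEquiv.ofBijective q (hq n hn)).symm (Ideal.Quotient.mk _ 1) = _
    rw [LinearEquiv.symm_apply_eq]
    show Ideal.Quotient.mk _ (1 : R') =
      Ideal.quotientMap (J.map (algebraMap R R')) (algebraMap R R') Ideal.le_comap_map (Ideal.Quotient.mk J 1)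
    rw [Ideal.quotientMap_mk]; simp
  have h1 := congrArg (fun z => quotTensorEquivQuotSMul M J (π.rTensor M z)) h
  simp only [LinearMap.rTensor_tmul, hπ, map_smul, quotTensorEquivQuotSMul_mk_tmul, one_smul] at h1
  obtain ⟨w, hw⟩ := Submodule.Quotient.mk_surjective _ (quotTensorEquivQuotSMul M J (π.rTensor M y))
  rw [← hw, ← Submodule.Quotient.mk_smul, Submodule.Quotient.eq,
    Submodule.ideal_span_singleton_smul] at h1
  obtain ⟨m', -, hm'⟩ := (Submodule.mem_smul_pointwise_iff_exists _ _ _).mp h1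
  exact ⟨w + m', by rw [smul_add, hm']; abel⟩

/-- On a module all of whose elements are killed by powers of `f`, tensoring with `R'` does
nothing. -/
theorem bijective_tmul_of_isTors (hM : ∀ m : M, IsTors f m) :
    Function.Bijective fun m : M => (1 : R') ⊗ₜ[R] m := by
  classical
  choose r b hr using fun (n : ℕ) (x : R') => exists_eq_add_pow_mul hq n x
  choose N hN using hM
  let act : R' → M → M := fun x q => r (N q) x • q
  have key : ∀ (n : ℕ) (x : R') (q : M) (s : R) (c : R'),
      x = algebraMap R R' s + algebraMap R R' f ^ n * c → f ^ n • q = 0 → act x q = s • q := by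
    intro n x q s c hx hn
    have hk : f ^ (min n (N q)) • q = 0 := by
      rcases min_choice n (N q) with h | h <;> rw [h]
      · exact hn
      · exact hN q
    obtain ⟨d, hd⟩ := pow_dvd_of_algebraMap hq (min n (N q))
      (r := r (N q) x - s)
      (y := algebraMap R R' f ^ (n - min n (N q)) * c -
        algebraMap R R' f ^ (N q - min n (N q)) * b (N q) x) (by
        rw [map_sub, mul_sub, ← mul_assoc, ← mul_assoc, ← pow_add, ← pow_add,
          Nat.add_sub_cancel' (min_le_left _ _), Nat.add_sub_cancel' (min_le_right _ _)]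
        linear_combination hx - hr (N q) x)
    show r (N q) x • q = s • q
    rw [← sub_eq_zero, ← sub_smul, hd, mul_comm, mul_smul, hk, smul_zero]
  let B : R' →ₗ[R] M →ₗ[R] M := LinearMap.mk₂ R act
    (fun x y q => by
      rw [key (N q) x q _ _ (hr _ x) (hN q), key (N q) y q _ _ (hr _ y) (hN q),
        key (N q) (x + y) q (r (N q) x + r (N q) y) (b (N q) x + b (N q) y)
          (by rw [map_add]; linear_combination hr (N q) x + hr (N q) y) (hN q), add_smul])
    (fun s x q => by
      rw [key (N q) x q _ _ (hr _ x) (hN q),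
        key (N q) (s • x) q (s * r (N q) x) (algebraMap R R' s * b (N q) x)
          (by rw [map_mul, Algebra.smul_def]; linear_combination algebraMap R R' s * hr (N q) x)
          (hN q), mul_smul])
    (fun x p q => by
      have hp : f ^ (N p + N q) • p = 0 := by rw [add_comm, pow_add, mul_smul, hN, smul_zero]
      have hq' : f ^ (N p + N q) • q = 0 := by rw [pow_add, mul_smul, hN, smul_zero]
      rw [key _ x p _ _ (hr (N p + N q) x) hp, key _ x q _ _ (hr (N p + N q) x) hq',
        key _ x (p + q) _ _ (hr (N p + N q) x) (by rw [smul_add, hp, hq', add_zero]), smul_add])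
    (fun s x q => by
      rw [key _ x q _ _ (hr (N q) x) (hN q),
        key _ x (s • q) _ _ (hr (N q) x) (by rw [smul_comm, hN, smul_zero]), smul_comm])
  have hB : ∀ q, TensorProduct.lift B ((1 : R') ⊗ₜ[R] q) = q := fun q => by
    rw [TensorProduct.lift.tmul]
    show act 1 q = q
    rw [key (N q) 1 q 1 0 (by simp) (hN q), one_smul]
  refine ⟨fun p q h => ?_, fun x => ?_⟩
  · rw [← hB p, ← hB q]; exact congrArg _ h
  · induction x using TensorProduct.induction_on with
    | zero => exact ⟨0, TensorProduct.tmul_zero _ _⟩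
    | tmul a q =>
      refine ⟨r (N q) a • q, ?_⟩
      show (1 : R') ⊗ₜ[R] (r (N q) a • q) = a ⊗ₜ[R] q
      conv_rhs => rw [hr (N q) a]
      rw [TensorProduct.add_tmul, Algebra.algebraMap_eq_smul_one, smul_tmul,
        ← map_pow, ← Algebra.smul_def, smul_tmul, hN, TensorProduct.tmul_zero, add_zero]
    | add x y hx hy =>
      obtain ⟨p, rfl⟩ := hx
      obtain ⟨q, rfl⟩ := hy
      exact ⟨p + q, TensorProduct.tmul_add _ _ _⟩

/-- A module killed by `R' ⊗ -` and by inverting `f` is zero. -/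
theorem eq_zero_of_tmul_eq_zero (hM : ∀ m : M, IsTors f m)
    (h : ∀ m : M, (1 : R') ⊗ₜ[R] m = 0) (m : M) : m = 0 :=
  (bijective_tmul_of_isTors hq hM).1 (by simp [h m])

/-- A submodule exhausting `M` after `R' ⊗ -` and after inverting `f` is everything. -/
theorem eq_top_of_baseChange (N : Submodule R M)
    (h₁ : Function.Surjective (N.subtype.lTensor R'))
    (h₂ : ∀ m : M, ∃ n : ℕ, f ^ n • m ∈ N) : N = ⊤ := by
  refine eq_top_iff.mpr fun m _ => ?_
  rw [← Submodule.Quotient.mk_eq_zero]
  refine eq_zero_of_tmul_eq_zero hq (fun q => ?_) (fun q => ?_) _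
  · obtain ⟨q, rfl⟩ := Submodule.Quotient.mk_surjective _ q
    obtain ⟨n, hn⟩ := h₂ q
    exact ⟨n, by rw [← Submodule.Quotient.mk_smul, Submodule.Quotient.mk_eq_zero]; exact hn⟩
  · obtain ⟨q, rfl⟩ := Submodule.Quotient.mk_surjective _ q
    obtain ⟨z, hz⟩ := h₁ ((1 : R') ⊗ₜ[R] q)
    have h3 := congrArg (N.mkQ.lTensor R') hz
    rw [← LinearMap.lTensor_comp_apply, LinearMap.range_le_ker_iff.mp, LinearMap.lTensor_zero,
      LinearMap.zero_apply, LinearMap.lTensor_tmul] at h3
    · exact h3.symm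
    · rw [Submodule.range_subtype, Submodule.ker_mkQ]

end Quot

/-! ### Criteria for a linear map -/

section Map

variable {M N : Type u} [AddCommGroup M] [Module R M] [AddCommGroup N] [Module R N] (f)

/-- `g` is injective on `f`-power torsion. -/
def InjTors (g : M →ₗ[R] N) : Prop := ∀ m, IsTors f m → g m = 0 → m = 0

/-- Every torsion element of the target comes from a torsion element. -/
def SurjTors (g : M →ₗ[R] N) : Prop := ∀ x, IsTors f x → ∃ m, IsTors f m ∧ g m = x

/-- The middle exactness of the glueing sequence, on elements. -/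
def Middle (g : M →ₗ[R] N) : Prop :=
  ∀ (x : N) (m₀ : M) (n k : ℕ), f ^ (n + k) • x = f ^ k • g m₀ →
    ∃ m, g m = x ∧ ∃ j, f ^ j • (f ^ n • m - m₀) = 0

variable {f}

theorem middle_iff_surjTors {g : M →ₗ[R] N}
    (hg : ∀ (n : ℕ) (m : M) (y : N), g m = f ^ n • y → ∃ m', m = f ^ n • m') :
    Middle f g ↔ SurjTors f g := by
  constructor
  · intro h x ⟨n, hx⟩
    obtain ⟨m, hm, j, hj⟩ := h x 0 n 0 (by simpa using hx)
    exact ⟨m, ⟨j + n, by rw [pow_add, mul_smul]; simpa using hj⟩, hm⟩
  · intro h x m₀ n k hx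
    obtain ⟨m₁, hm₁⟩ := hg (n + k) (f ^ k • m₀) x (by rw [map_smul, hx])
    obtain ⟨t, ⟨i, ht⟩, ht'⟩ := h (x - g m₁)
      ⟨n + k, by rw [smul_sub, ← map_smul, ← hm₁, map_smul, hx, sub_self]⟩
    refine ⟨m₁ + t, by rw [map_add, ht', add_sub_cancel], i + k, ?_⟩
    have h1 : f ^ (i + k) • (f ^ n • (m₁ + t) - m₀) =
        f ^ i • (f ^ (n + k) • m₁ - f ^ k • m₀) + f ^ (n + k) • (f ^ i • t) := by module
    rw [h1, ← hm₁, sub_self, smul_zero, zero_add, ht, smul_zero]

end Map

variable (f) in
theorem isGlueable_iff (M : Type u) [AddCommGroup M] [Module R M] :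
    IsGlueable R R' f M ↔
      InjTors f (TensorProduct.mk R R' M 1) ∧ Middle f (TensorProduct.mk R R' M 1) := by
  set ℓ := LocalizedModule.mkLinearMap (Submonoid.powers f) M with hℓ
  have hu : ∀ (n : ℕ) (a b : LocalizedModule (Submonoid.powers f) (R' ⊗[R] M)),
      f ^ n • a = f ^ n • b → a = b := fun n a b h =>
    ((Module.End.isUnit_iff _).mp (IsLocalizedModule.map_units (locOfTensor R R' f M)
      (pw f n))).1 h
  have huM : ∀ (n : ℕ) (a b : LocalizedModule (Submonoid.powers f) M),
      f ^ n • a = f ^ n • b → a = b := fun n a b h =>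
    ((Module.End.isUnit_iff _).mp (IsLocalizedModule.map_units ℓ (pw f n))).1 h
  have hmap : ∀ m, tensorOfLoc R R' f M (ℓ m) = locOfTensor R R' f M ((1 : R') ⊗ₜ[R] m) :=
    fun m => IsLocalizedModule.map_apply _ _ _ _ m
  have hex : ∀ y : LocalizedModule (Submonoid.powers f) M, ∃ (m₀ : M) (n : ℕ),
      f ^ n • y = ℓ m₀ := fun y => by
    obtain ⟨⟨m₀, ⟨_, n, rfl⟩⟩, h⟩ := IsLocalizedModule.surj (Submonoid.powers f) ℓ y
    exact ⟨m₀, n, h⟩
  have heqN : ∀ (a b : R' ⊗[R] M), locOfTensor R R' f M a = locOfTensor R R' f M b ↔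
      ∃ k : ℕ, f ^ k • a = f ^ k • b := fun a b => by
    rw [IsLocalizedModule.eq_iff_exists (Submonoid.powers f)]
    exact ⟨fun ⟨⟨_, k, rfl⟩, h⟩ => ⟨k, h⟩, fun ⟨k, h⟩ => ⟨⟨_, k, rfl⟩, h⟩⟩
  have heqM : ∀ (a b : M), ℓ a = ℓ b ↔ ∃ k : ℕ, f ^ k • a = f ^ k • b := fun a b => by
    rw [IsLocalizedModule.eq_iff_exists (Submonoid.powers f)]
    exact ⟨fun ⟨⟨_, k, rfl⟩, h⟩ => ⟨k, h⟩, fun ⟨k, h⟩ => ⟨⟨_, k, rfl⟩, h⟩⟩
  constructor
  · rintro ⟨hinj, hmid⟩
    refine ⟨fun m ⟨k, hk⟩ hm => hinj ?_, fun x m₀ n k hx => ?_⟩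
    · have h1 : ℓ m = ℓ 0 := (heqM _ _).mpr ⟨k, by simpa using hk⟩
      simp only [Prod.mk.injEq]
      exact ⟨by simpa using hm, h1⟩
    · obtain ⟨y, hy⟩ : ∃ y, f ^ n • y = ℓ m₀ :=
        ((Module.End.isUnit_iff _).mp (IsLocalizedModule.map_units ℓ (pw f n))).2 (ℓ m₀)
      have h1 : locOfTensor R R' f M x = tensorOfLoc R R' f M y := by
        apply hu n
        rw [← map_smul, ← map_smul, hy, hmap, heqN]
        exact ⟨k, by rw [smul_smul, ← pow_add, add_comm k n]; exact hx⟩
      obtain ⟨m, hm, hm'⟩ := hmid x y h1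
      refine ⟨m, hm, ?_⟩
      obtain ⟨j, hj⟩ := (heqM (f ^ n • m) m₀).mp (by rw [map_smul, hm', hy])
      exact ⟨j, by rw [smul_sub, hj, sub_self]⟩
  · rintro ⟨hinj, hmid⟩
    refine ⟨fun a b hab => ?_, fun x y hxy => ?_⟩
    · simp only [Prod.mk.injEq] at hab
      obtain ⟨k, hk⟩ := (heqM a b).mp hab.2
      rw [← sub_eq_zero]
      refine hinj _ ⟨k, by rw [smul_sub, hk, sub_self]⟩ ?_
      simp [TensorProduct.tmul_sub, hab.1]
    · obtain ⟨m₀, n, hy⟩ := hex y
      have h1 : locOfTensor R R' f M (f ^ n • x) = locOfTensor R R' f M ((1 : R') ⊗ₜ[R] m₀) := by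
        rw [map_smul, hxy, ← map_smul, hy, hmap]
      obtain ⟨k, hk⟩ := (heqN _ _).mp h1
      obtain ⟨m, hm, j, hj⟩ := hmid x m₀ n k (by rw [pow_add, mul_comm, mul_smul]; exact hk)
      refine ⟨m, hm, huM n _ _ ?_⟩
      rw [← map_smul, hy, heqM]
      exact ⟨j, by rw [← sub_eq_zero, ← smul_sub, hj]⟩

theorem algebraMap_locAway_eq_zero_iff {A : Type*} [CommRing A] (a g : A) :
    algebraMap A (Localization.Away g) a = 0 ↔ ∃ n : ℕ, g ^ n * a = 0 := by
  rw [IsLocalization.map_eq_zero_iff (Submonoid.powers g)]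
  exact ⟨fun ⟨⟨_, n, rfl⟩, h⟩ => ⟨n, h⟩, fun ⟨n, h⟩ => ⟨⟨_, n, rfl⟩, h⟩⟩

theorem awayMap_algebraMap (r : R) :
    Localization.awayMap (algebraMap R R') f (algebraMap R (Localization.Away f) r) =
      algebraMap R' (Localization.Away (algebraMap R R' f)) (algebraMap R R' r) :=
  IsLocalization.map_eq _ r

theorem awayMap_mk' (m : R) (n : ℕ) :
    Localization.awayMap (algebraMap R R') f (IsLocalization.mk' (Localization.Away f) m (pw f n)) *
        algebraMap R' (Localization.Away (algebraMap R R' f)) (algebraMap R R' f ^ n) =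
      algebraMap R' (Localization.Away (algebraMap R R' f)) (algebraMap R R' m) := by
  have h := IsLocalization.mk'_spec (Localization.Away f) m (pw f n)
  rw [coe_pw] at h
  rw [← map_pow, ← awayMap_algebraMap, ← map_mul, h, awayMap_algebraMap]

theorem isGlueingPair_iff (hq : QuotPowBijective R R' f) :
    IsGlueingPair R R' f ↔
      InjTors f (Algebra.linearMap R R') ∧ SurjTors f (Algebra.linearMap R R') := by
  have hg : ∀ (n : ℕ) (m : R) (y : R'), Algebra.linearMap R R' m = f ^ n • y →
      ∃ m', m = f ^ n • m' := fun n m y h => by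
    obtain ⟨m', hm'⟩ := pow_dvd_of_algebraMap hq n (r := m) (y := y)
      (by rw [← map_pow, ← Algebra.smul_def]; exact h)
    exact ⟨m', hm'⟩
  rw [← middle_iff_surjTors hg]
  constructor
  · rintro ⟨-, hinj, hmid, -⟩
    refine ⟨fun r ⟨k, hk⟩ hr => hinj ?_, fun x m₀ n k hx => ?_⟩
    · have h1 : algebraMap R (Localization.Away f) r = 0 :=
        (algebraMap_locAway_eq_zero_iff _ _).mpr ⟨k, hk⟩
      simp only [Algebra.linearMap_apply] at hr
      simp [hr, h1]
    · obtain ⟨r, hr, hr'⟩ := hmid x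
        (IsLocalization.mk' (Localization.Away f) m₀ (pw f n)) (by
        rw [← (isUnit_pow (algebraMap R R' f) n).mul_left_inj, awayMap_mk']
        rw [← map_mul, IsLocalization.eq_iff_exists (Submonoid.powers (algebraMap R R' f))]
        refine ⟨⟨_, k, rfl⟩, ?_⟩
        simp only [Algebra.smul_def, map_pow, Algebra.linearMap_apply] at hx
        linear_combination hx)
      refine ⟨r, hr, ?_⟩
      have h1 : algebraMap R (Localization.Away f) (f ^ n * r - m₀) = 0 := by
        have h2 := IsLocalization.mk'_spec' (Localization.Away f) m₀ (pw f n)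
        rw [coe_pw] at h2
        rw [map_sub, map_mul, hr', h2, sub_self]
      obtain ⟨j, hj⟩ := (algebraMap_locAway_eq_zero_iff _ _).mp h1
      exact ⟨j, hj⟩
  · rintro ⟨hinj, hmid⟩
    refine ⟨hq, fun a b hab => ?_, fun x y hxy => ?_, fun z => ?_⟩
    · simp only [Prod.mk.injEq] at hab
      rw [← sub_eq_zero]
      obtain ⟨k, hk⟩ := (algebraMap_locAway_eq_zero_iff (a - b) f).mp (by rw [map_sub, hab.2, sub_self])
      exact hinj _ ⟨k, hk⟩ (by simp [hab.1])
    · obtain ⟨⟨m₀, ⟨_, n, rfl⟩⟩, hy⟩ := IsLocalization.surj (Submonoid.powers f) y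
      change y * algebraMap R (Localization.Away f) (f ^ n) =
        algebraMap R (Localization.Away f) m₀ at hy
      have h1 : algebraMap R' (Localization.Away (algebraMap R R' f))
          (x * algebraMap R R' f ^ n) =
          algebraMap R' (Localization.Away (algebraMap R R' f)) (algebraMap R R' m₀) := by
        rw [map_mul, hxy, ← map_pow, ← awayMap_algebraMap, ← map_mul, ← awayMap_algebraMap]
        exact congrArg _ hy
      obtain ⟨⟨_, k, rfl⟩, hk⟩ := (IsLocalization.eq_iff_exists
        (Submonoid.powers (algebraMap R R' f)) _).mp h1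
      obtain ⟨r, hr, j, hj⟩ := hmid x m₀ n k (by
        simp only [Algebra.smul_def, map_pow, Algebra.linearMap_apply]
        linear_combination hk)
      refine ⟨r, hr, (isUnit_pow f n).mul_left_inj.mp ?_⟩
      rw [hy, ← map_mul, IsLocalization.eq_iff_exists (Submonoid.powers f)]
      refine ⟨⟨_, j, rfl⟩, ?_⟩
      simp only [smul_eq_mul] at hj
      linear_combination hj
    · obtain ⟨⟨x, ⟨_, n, rfl⟩⟩, hz⟩ := IsLocalization.surj (Submonoid.powers (algebraMap R R' f)) z
      obtain ⟨r, b, rfl⟩ := exists_eq_add_pow_mul hq n x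
      refine ⟨b, -IsLocalization.mk' (Localization.Away f) r
        (pw f n), ?_⟩
      rw [← (isUnit_pow (algebraMap R R' f) n).mul_left_inj]
      simp only at hz
      rw [map_neg, sub_neg_eq_add, add_mul, hz, map_add, map_mul, mul_comm (algebraMap R' _ b), add_comm]
      congr 1
      exact awayMap_mk' r n

/-- Over a glueing pair every torsion element of `R' ⊗ M` comes from `M`. -/
theorem surjTors_of_isGlueingPair (h : IsGlueingPair R R' f) (M : Type u) [AddCommGroup M]
    [Module R M] : SurjTors f (TensorProduct.mk R R' M 1) := by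
  intro x ⟨n, hx⟩
  let L := Localization.Away (algebraMap R R' f)
  let a : R' →ₗ[R] L := (IsScalarTower.toAlgHom R R' L).toLinearMap
  let b : Localization.Away f →ₗ[R] L :=
    { toFun := Localization.awayMap (algebraMap R R') f
      map_add' := map_add _
      map_smul' := fun s y => by
        rw [RingHom.id_apply, Algebra.smul_def, Algebra.smul_def, map_mul, awayMap_algebraMap,
          ← IsScalarTower.algebraMap_apply] }
  let u : R →ₗ[R] R' × Localization.Away f :=
    (Algebra.linearMap R R').prod (Algebra.linearMap R (Localization.Away f))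
  let v : R' × Localization.Away f →ₗ[R] L := a.coprod (-b)
  have huv : Function.Exact u v := by
    intro p
    constructor
    · intro hp
      obtain ⟨r, h1, h2⟩ := h.2.2.1 p.1 p.2 (sub_eq_zero.mp (by
        rw [sub_eq_add_neg]; exact hp))
      exact ⟨r, Prod.ext h1 h2⟩
    · rintro ⟨r, rfl⟩
      show algebraMap R' L (algebraMap R R' r) +
        -(Localization.awayMap (algebraMap R R') f (algebraMap R _ r)) = 0
      rw [awayMap_algebraMap, add_neg_cancel]
  have hv : Function.Surjective v := fun z => by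
    obtain ⟨c, d, hcd⟩ := h.2.2.2 z
    exact ⟨(c, d), by rw [← hcd, sub_eq_add_neg]; rfl⟩
  have hax : a.rTensor M x = 0 := by
    obtain ⟨c, hc⟩ := isUnit_pow (algebraMap R R' f) n
    have h1 : a = (LinearMap.mulLeft R (↑c⁻¹ : L)).comp (f ^ n • a) := LinearMap.ext fun y => by
      show algebraMap R' L y = ↑c⁻¹ * (f ^ n • algebraMap R' L y)
      rw [Algebra.smul_def, IsScalarTower.algebraMap_apply R R' L, map_pow, ← hc, ← mul_assoc,
        Units.inv_mul, one_mul]
    rw [h1, LinearMap.rTensor_comp_apply, LinearMap.rTensor_smul, LinearMap.smul_apply,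
      ← map_smul (a.rTensor M), hx, map_zero, map_zero]
  obtain ⟨w, hw⟩ := (rTensor_exact M huv hv ((LinearMap.inl R R' (Localization.Away f)).rTensor M x)).mp
    (by rw [← LinearMap.rTensor_comp_apply, show v.comp (LinearMap.inl R R' _) = a from
      LinearMap.coprod_inl _ _, hax])
  obtain ⟨m, rfl⟩ : ∃ m, (1 : R) ⊗ₜ[R] m = w := ⟨TensorProduct.lid R M w, by simp [← TensorProduct.lid_symm_apply]⟩
  have h1 := congrArg ((LinearMap.fst R R' (Localization.Away f)).rTensor M) hw
  have h2 := congrArg ((LinearMap.snd R R' (Localization.Away f)).rTensor M) hw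
  rw [← LinearMap.rTensor_comp_apply, ← LinearMap.rTensor_comp_apply, LinearMap.fst_comp_inl,
    LinearMap.rTensor_id_apply, LinearMap.rTensor_tmul] at h1
  rw [← LinearMap.rTensor_comp_apply, ← LinearMap.rTensor_comp_apply, LinearMap.snd_comp_inl,
    LinearMap.rTensor_zero, LinearMap.zero_apply, LinearMap.rTensor_tmul] at h2
  simp only [u, LinearMap.fst_prod, LinearMap.snd_prod,
    Algebra.linearMap_apply, map_one] at h1 h2
  obtain ⟨⟨_, j, rfl⟩, hj⟩ := (IsLocalizedModule.eq_zero_iff (Submonoid.powers f)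
    (TensorProduct.mk R (Localization.Away f) M 1)).mp h2
  exact ⟨m, ⟨j, hj⟩, h1⟩

theorem isGlueable_iff_tors (hq : QuotPowBijective R R' f) (M : Type u) [AddCommGroup M]
    [Module R M] :
    IsGlueable R R' f M ↔
      InjTors f (TensorProduct.mk R R' M 1) ∧ SurjTors f (TensorProduct.mk R R' M 1) := by
  rw [isGlueable_iff, middle_iff_surjTors fun n m y h => pow_smul_dvd_of_tmul hq n h]

theorem isGlueable_iff_injTors (h : IsGlueingPair R R' f) (M : Type u) [AddCommGroup M]
    [Module R M] : IsGlueable R R' f M ↔ InjTors f (TensorProduct.mk R R' M 1) := by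
  rw [isGlueable_iff_tors h.1]
  exact and_iff_left (surjTors_of_isGlueingPair h M)

end Groth.L05.Glue
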